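import Mathlib.GroupTheory.FiniteAbelian.Duality
import Mathlib.RingTheory.RootsOfUnity.Complex
import Mathlib.FieldTheory.IsAlgClosed.Basic
import Mathlib.RingTheory.RootsOfUnity.AlgebraicallyClosed
import Mathlib.Analysis.Complex.Polynomial.Basic
import Cfsg.Agent.Lib.PGroup.OddNormalElementary

/-!
A normal `p`-subgroup, `p` odd, all of whose normal elementary abelian subgroups have order at most
`p`: its elements of order `p` form a subgroup with centre of order `p`.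
-/

set_option autoImplicit false

namespace Cfsg.Lib.ClassSub

open Subgroup
open scoped commutatorElement

variable {M : Type*} [Group M] [Finite M]

theorem exists_embed {Z : Type*} [Group Z] [Finite Z] [IsCyclic Z] :
    ∃ f : Z →* ℂˣ, Function.Injective f := by
  haveI : NeZero (Nat.card Z) := ⟨Nat.card_pos.ne'⟩
  haveI : NeZero ((Nat.card Z : ℕ) : ℂ) := ⟨Nat.cast_ne_zero.2 Nat.card_pos.ne'⟩
  let e : Z ≃* rootsOfUnity (Nat.card Z) ℂ := mulEquivOfCyclicCardEq (by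
    rw [HasEnoughRootsOfUnity.natCard_rootsOfUnity])
  exact ⟨(rootsOfUnity (Nat.card Z) ℂ).subtype.comp e.toMonoidHom,
    (rootsOfUnity (Nat.card Z) ℂ).subtype_injective.comp e.injective⟩

/-- Commutator pairing: `|S : D| ≤ |T : B|` when `D` absorbs what centralises `T` and `S` centralises `B`. -/
theorem relIndex_le_pair {z : M} (S T B D : Subgroup M) [hBn : (B.subgroupOf T).Normal]
    (hmem : ∀ s ∈ S, ∀ t ∈ T, ⁅s, t⁆ ∈ zpowers z) (hc : ∀ t ∈ T, Commute t z)
    (hB : ∀ s ∈ S, ∀ b ∈ B, Commute s b) (hD : ∀ s ∈ S, (∀ t ∈ T, Commute s t) → s ∈ D) :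
    D.relIndex S ≤ B.relIndex T := by
  obtain ⟨ι, hι⟩ := exists_embed (Z := zpowers z)
  let Q := Abelianization (↥T ⧸ B.subgroupOf T)
  haveI : Finite Q := Finite.of_surjective _ QuotientGroup.mk_surjective
  have hmul : ∀ s ∈ S, ∀ a ∈ T, ∀ b ∈ T, ⁅s, a * b⁆ = ⁅s, a⁆ * ⁅s, b⁆ := fun s hs a ha b hb => by
    obtain ⟨k, hk⟩ := mem_zpowers_iff.1 (hmem s hs b hb)
    have h : a * ⁅s, b⁆ * a⁻¹ = ⁅s, b⁆ := by
      rw [← hk, ((hc a ha).zpow_right k).eq, mul_inv_cancel_right]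
    conv_rhs => rw [← h]
    simp only [commutatorElement_def]
    group
  let φ : ↥S → (↥T →* ↥(zpowers z)) := fun s => MonoidHom.mk'
    (fun t => ⟨⁅(s : M), (t : M)⁆, hmem s s.2 t t.2⟩)
    fun a b => Subtype.ext (hmul s s.2 a a.2 b b.2)
  have hker : ∀ s, B.subgroupOf T ≤ (ι.comp (φ s)).ker := fun s b hb => by
    have : φ s b = 1 := Subtype.ext (commutatorElement_eq_one_iff_mul_comm.2 (hB s s.2 _ hb))
    rw [MonoidHom.mem_ker, MonoidHom.comp_apply, this, map_one]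
  let Φ : ↥S ⧸ D.subgroupOf S → (Q →* ℂˣ) := fun s =>
    Abelianization.lift (QuotientGroup.lift (B.subgroupOf T) (ι.comp (φ s.out)) (hker s.out))
  have hinj : Function.Injective Φ := by
    intro s s' h
    rw [← QuotientGroup.out_eq' s, ← QuotientGroup.out_eq' s', QuotientGroup.eq]
    refine hD _ (S.mul_mem (S.inv_mem s.out.2) s'.out.2) fun t ht => ?_
    have h1 := DFunLike.congr_fun h (Abelianization.of (QuotientGroup.mk (⟨t, ht⟩ : T)))
    simp only [Φ, Abelianization.lift_apply_of, QuotientGroup.lift_mk, MonoidHom.comp_apply] at h1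
    have h2 : ⁅(s.out : M), t⁆ = ⁅(s'.out : M), t⁆ := congrArg Subtype.val (hι h1)
    simp only [commutatorElement_def, mul_left_inj] at h2
    show ((s.out : M)⁻¹ * s'.out) * t = t * ((s.out : M)⁻¹ * s'.out)
    calc (s.out : M)⁻¹ * s'.out * t = (s.out : M)⁻¹ * (s'.out * t * (s'.out : M)⁻¹) * s'.out := by group
      _ = t * ((s.out : M)⁻¹ * s'.out) := by rw [← h2]; group
  haveI : NeZero (Monoid.exponent Q) := ⟨Monoid.exponent_ne_zero_of_finite⟩
  haveI : NeZero ((Monoid.exponent Q : ℕ) : ℂ) := ⟨Nat.cast_ne_zero.2 (NeZero.ne _)⟩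
  haveI : Finite (Q →* ℂˣ) := Nat.finite_of_card_ne_zero (by
    rw [CommGroup.card_monoidHom_of_hasEnoughRootsOfUnity Q ℂ]; exact Nat.card_pos.ne')
  calc D.relIndex S = Nat.card (↥S ⧸ D.subgroupOf S) := rfl
    _ ≤ Nat.card (Q →* ℂˣ) := Nat.card_le_card_of_injective Φ hinj
    _ = Nat.card Q := CommGroup.card_monoidHom_of_hasEnoughRootsOfUnity Q ℂ
    _ ≤ B.relIndex T := Nat.card_le_card_of_surjective _ QuotientGroup.mk_surjective

variable {p : ℕ} [hp : Fact p.Prime]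

/-- The elements of `X` of order dividing `p` that are central in `X` modulo `⟨z⟩`. -/
def omTwo (hp2 : p ≠ 2) (z : M) (hz : z ^ p = 1) (X : Subgroup M) (hc : ∀ g ∈ X, Commute g z) :
    Subgroup M where
  carrier := {x | x ∈ X ∧ x ^ p = 1 ∧ ∀ g ∈ X, ⁅g, x⁆ ∈ zpowers z}
  one_mem' := ⟨X.one_mem, one_pow _, fun g _ => by simp⟩
  inv_mem' := fun {x} hx => ⟨X.inv_mem hx.1, by rw [inv_pow, hx.2.1, inv_one], fun g hg => by
    obtain ⟨k, hk⟩ := mem_zpowers_iff.1 (hx.2.2 g hg)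
    have : ⁅g, x⁻¹⁆ = x⁻¹ * ⁅g, x⁆⁻¹ * x := by simp only [commutatorElement_def]; group
    rw [this, ← hk, ← zpow_neg, (((hc x hx.1).inv_left).zpow_right (-k)).eq, inv_mul_cancel_right]
    exact zpow_mem_zpowers _ _⟩
  mul_mem' := fun {x y} hx hy => by
    refine ⟨X.mul_mem hx.1 hy.1, ?_, fun g hg => ?_⟩
    · have hd : ⁅y⁻¹, x⁻¹⁆ ∈ zpowers z := by
        obtain ⟨k, hk⟩ := mem_zpowers_iff.1 (hx.2.2 _ (X.inv_mem hy.1))
        have : ⁅y⁻¹, x⁻¹⁆ = x⁻¹ * ⁅y⁻¹, x⁆⁻¹ * x := by simp only [commutatorElement_def]; group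
        rw [this, ← hk, ← zpow_neg, (((hc x hx.1).inv_left).zpow_right (-k)).eq, inv_mul_cancel_right]
        exact zpow_mem_zpowers _ _
      obtain ⟨k, hk⟩ := mem_zpowers_iff.1 hd
      have hdx : Commute ⁅y⁻¹, x⁻¹⁆ x := by rw [← hk]; exact ((hc x hx.1).symm.zpow_left k)
      have hdy : Commute ⁅y⁻¹, x⁻¹⁆ y := by rw [← hk]; exact ((hc y hy.1).symm.zpow_left k)
      rw [PGroup.OddNormalElementary.mul_pow_of_commutator hdx hdy
        (by simp only [commutatorElement_def]; group) p, hx.2.1, hy.2.1, one_mul, one_mul]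
      obtain ⟨c, hc'⟩ := hp.out.dvd_choose_self two_ne_zero (lt_of_le_of_ne hp.out.two_le (Ne.symm hp2))
      have hdp : ⁅y⁻¹, x⁻¹⁆ ^ p = 1 := by
        rw [← hk, ← zpow_natCast, ← zpow_mul, mul_comm, zpow_mul, zpow_natCast, hz, one_zpow]
      rw [hc', pow_mul, hdp, one_pow]
    · obtain ⟨k, hk⟩ := mem_zpowers_iff.1 (hy.2.2 g hg)
      have : ⁅g, x * y⁆ = ⁅g, x⁆ * (x * ⁅g, y⁆ * x⁻¹) := by simp only [commutatorElement_def]; group
      rw [this, ← hk, ((hc x hx.1).zpow_right k).eq, mul_inv_cancel_right]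
      exact mul_mem (hx.2.2 g hg) (zpow_mem_zpowers _ _)

theorem omTwo_normal (hp2 : p ≠ 2) {z : M} (hz : z ^ p = 1) (X : Subgroup M) [hX : X.Normal]
    [hZ : (zpowers z).Normal] (hc : ∀ g ∈ X, Commute g z) : (omTwo hp2 z hz X hc).Normal := by
  refine ⟨fun x hx g => ⟨hX.conj_mem x hx.1 g, by rw [conj_pow, hx.2.1]; simp, fun k hk => ?_⟩⟩
  have := hZ.conj_mem _ (hx.2.2 (g⁻¹ * k * g) (by simpa using hX.conj_mem k hk g⁻¹)) g
  convert this using 1
  simp only [commutatorElement_def]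
  group

omit hp in
/-- A subgroup of `X` normalised by `X`, not inside `Z`, has an element outside `Z` central in `X` modulo `Z`. -/
theorem exists_central_mod [Fact p.Prime] {X K Z : Subgroup M} (hXp : IsPGroup p X) (hKX : K ≤ X)
    (hnorm : ∀ g ∈ X, ∀ k ∈ K, g * k * g⁻¹ ∈ K) (hne : ¬ K ≤ Z) :
    ∃ y ∈ K, y ∉ Z ∧ ∀ g ∈ X, ⁅g, y⁆ ∈ Z := by
  classical
  haveI : Group.IsNilpotent X := hXp.isNilpotent
  have hex : ∃ n, ∃ y : X, (y : M) ∈ K ∧ (y : M) ∉ Z ∧ y ∈ Subgroup.upperCentralSeries X n := by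
    obtain ⟨n, hn⟩ := Group.IsNilpotent.nilpotent X
    obtain ⟨y, hy, hy'⟩ := SetLike.not_le_iff_exists.1 hne
    exact ⟨n, ⟨y, hKX hy⟩, hy, hy', hn ▸ mem_top _⟩
  obtain ⟨y, hyK, hyZ, hyn⟩ := Nat.find_spec hex
  obtain ⟨n, hn⟩ : ∃ n, Nat.find hex = n + 1 := by
    refine Nat.exists_eq_succ_of_ne_zero fun h0 => ?_
    rw [h0, Subgroup.upperCentralSeries_zero, mem_bot] at hyn
    exact hyZ (by rw [hyn]; exact Z.one_mem)
  refine ⟨y, hyK, hyZ, fun g hg => ?_⟩
  rw [hn, Subgroup.mem_upperCentralSeries_succ_iff] at hyn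
  have h1 := inv_mem (hyn ⟨g, hg⟩)
  rw [commutatorElement_inv] at h1
  by_contra hc
  refine Nat.find_min hex (show n < Nat.find hex by omega) ⟨_, ?_, hc, h1⟩
  show ⁅g, (y : M)⁆ ∈ K
  rw [commutatorElement_def]
  exact K.mul_mem (hnorm g hg _ hyK) (K.inv_mem hyK)

variable (p) in
/-- The data extracted from a normal `p`-subgroup without noncyclic normal elementary abelian subgroup. -/
structure SymData (P : Subgroup M) (z : M) (E : Subgroup M) : Prop where
  ord : orderOf z = p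
  zP : z ∈ P
  zc : ∀ g ∈ P, Commute g z
  zn : (zpowers z).Normal
  le : E ≤ P
  omega : ∀ x ∈ P, x ^ p = 1 → x ∈ E
  pow : ∀ x ∈ E, x ^ p = 1
  zE : z ∈ E
  comm : ∀ g ∈ E, ∀ x ∈ E, ⁅g, x⁆ ∈ zpowers z
  center : ∀ x ∈ E, (∀ g ∈ E, Commute x g) → x ∈ zpowers z

theorem exists_symData (hp2 : p ≠ 2) (P : Subgroup M) [hPn : P.Normal] (hP : IsPGroup p P) (hP1 : P ≠ ⊥)
    (hcyc : ∀ T : Subgroup M, T.Normal → T ≤ P → Cfsg.IsElementaryAbelian p T →
      ∀ t ∈ T, t ≠ 1 → T ≤ zpowers t) :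
    ∃ z E, SymData p P z E := by
  classical
  -- the central element
  let W : Subgroup M :=
    { carrier := {x | x ∈ P ∧ x ^ p = 1 ∧ ∀ g ∈ P, Commute g x}
      one_mem' := ⟨P.one_mem, one_pow _, fun g _ => Commute.one_right g⟩
      mul_mem' := fun {x y} hx hy => ⟨P.mul_mem hx.1 hy.1, by
        rw [(hy.2.2 x hx.1).mul_pow, hx.2.1, hy.2.1, one_mul], fun g hg => (hx.2.2 g hg).mul_right (hy.2.2 g hg)⟩
      inv_mem' := fun {x} hx => ⟨P.inv_mem hx.1, by rw [inv_pow, hx.2.1, inv_one],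
        fun g hg => (hx.2.2 g hg).inv_right⟩ }
  haveI hWn : W.Normal := by
    refine ⟨fun x hx g => ⟨hPn.conj_mem x hx.1 g, by rw [conj_pow, hx.2.1]; simp, fun k hk => ?_⟩⟩
    have h := (hx.2.2 (g⁻¹ * k * g) (by simpa using hPn.conj_mem k hk g⁻¹)).eq
    show k * (g * x * g⁻¹) = g * x * g⁻¹ * k
    calc k * (g * x * g⁻¹) = g * (g⁻¹ * k * g * x) * g⁻¹ := by group
      _ = g * (x * (g⁻¹ * k * g)) * g⁻¹ := by rw [h]
      _ = g * x * g⁻¹ * k := by group
  have hWe : Cfsg.IsElementaryAbelian p W :=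
    ⟨⟨⟨fun a b => Subtype.ext (b.2.2.2 a a.2.1)⟩⟩, fun x hx => hx.2.1⟩
  haveI : Nontrivial P := (nontrivial_iff_ne_bot P).2 hP1
  haveI := hP.center_nontrivial
  obtain ⟨c, hc1, hcc⟩ : ∃ c : M, c ≠ 1 ∧ c ∈ W := by
    obtain ⟨k, hk⟩ := IsPGroup.iff_card.1 (hP.to_subgroup (Subgroup.center P))
    have hk0 : k ≠ 0 := fun h => by
      have := Finite.one_lt_card (α := Subgroup.center P)
      rw [hk, h, pow_zero] at this
      omega
    obtain ⟨c, hc⟩ := exists_prime_orderOf_dvd_card' (G := Subgroup.center P) p (hk ▸ dvd_pow_self p hk0)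
    have hord : orderOf ((c : P) : M) = p := by rw [Subgroup.orderOf_coe, Subgroup.orderOf_coe, hc]
    refine ⟨((c : P) : M), fun h => hp.out.ne_one (by rw [← hord, h, orderOf_one]), (c : P).2,
      by rw [← hord, pow_orderOf_eq_one], fun g hg => ?_⟩
    exact congrArg Subtype.val (Subgroup.mem_center_iff.1 c.2 ⟨g, hg⟩)
  obtain ⟨hcP, hcp, hccom⟩ := hcc
  have hWc : W ≤ zpowers c := hcyc W hWn (fun x hx => hx.1) hWe c ⟨hcP, hcp, hccom⟩ hc1
  haveI hZn : (zpowers c).Normal := by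
    have : zpowers c = W := le_antisymm (zpowers_le.2 ⟨hcP, hcp, hccom⟩) hWc
    rw [this]; exact hWn
  have hsmall : ∀ T : Subgroup M, T.Normal → T ≤ P → Cfsg.IsElementaryAbelian p T → T ≤ zpowers c := by
    intro T hT hTP hTe
    by_contra hne
    obtain ⟨y, hy, hy1, hyc⟩ := exists_central_mod (X := P) (K := T) (Z := ⊥) hP hTP
      (fun g _ k hk => hT.conj_mem k hk g) (fun h => hne (h.trans bot_le))
    have hyW : y ∈ W := ⟨hTP hy, hTe.2 y hy, fun g hg =>
      commutatorElement_eq_one_iff_mul_comm.1 (mem_bot.1 (hyc g hg))⟩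
    exact hne ((hcyc T hT hTP hTe y hy (fun h => hy1 (mem_bot.2 h))).trans (zpowers_le.2 (hWc hyW)))
  set E := omTwo hp2 c hcp P hccom with hE
  haveI hEn : E.Normal := omTwo_normal hp2 hcp P hccom
  have hEP : E ≤ P := fun x hx => hx.1
  have hcen : ∀ x ∈ E, (∀ g ∈ E, Commute x g) → x ∈ zpowers c := by
    intro x hx hxc
    refine hsmall (E ⊓ centralizer (E : Set M)) inferInstance (inf_le_left.trans hEP)
      ⟨⟨⟨fun a b => Subtype.ext (mem_centralizer_iff.1 b.2.2 a a.2.1)⟩⟩, fun y hy => hy.1.2.1⟩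
      ⟨hx, mem_centralizer_iff.2 fun g hg => (hxc g hg).symm⟩
  set C := P ⊓ centralizer (E : Set M) with hC
  haveI hCn : C.Normal := inferInstance
  have hCP : C ≤ P := inf_le_left
  have hcC : c ∈ C := ⟨hcP, mem_centralizer_iff.2 fun g hg => hccom g (hEP hg)⟩
  have hEC : ∀ x ∈ E, x ∈ C → x ∈ zpowers c := fun x hx hxC =>
    hcen x hx fun g hg => (mem_centralizer_iff.1 hxC.2 g hg).symm
  -- elements of order p of C
  have hY : omTwo hp2 c hcp C (fun g hg => hccom g (hCP hg)) ≤ zpowers c := by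
    by_contra hne
    haveI := omTwo_normal hp2 hcp C (fun g hg => hccom g (hCP hg))
    obtain ⟨y, hy, hyZ, hyc⟩ := exists_central_mod (X := P)
      (K := omTwo hp2 c hcp C (fun g hg => hccom g (hCP hg))) hP
      (fun x hx => hCP hx.1) (fun g _ k hk => (inferInstance : (omTwo hp2 c hcp C
        (fun g hg => hccom g (hCP hg))).Normal).conj_mem k hk g) hne
    exact hyZ (hEC y (show y ∈ E from ⟨hCP hy.1, hy.2.1, hyc⟩) hy.1)
  have hCom : ∀ x ∈ C, x ^ p = 1 → x ∈ zpowers c := by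
    intro x hx hxp
    have hAe : Cfsg.IsElementaryAbelian p ((zpowers c).subgroupOf C) := by
      refine ⟨⟨⟨fun a b => Subtype.ext (Subtype.ext ?_)⟩⟩, fun a ha => Subtype.ext ?_⟩
      · obtain ⟨i, hi⟩ := mem_zpowers_iff.1 a.2
        obtain ⟨j, hj⟩ := mem_zpowers_iff.1 b.2
        show ((a : C) : M) * (b : C) = (b : C) * (a : C)
        rw [show ((a : C) : M) = c ^ i from hi.symm, show ((b : C) : M) = c ^ j from hj.symm,
          ← zpow_add, ← zpow_add, add_comm]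
      · obtain ⟨i, hi⟩ := mem_zpowers_iff.1 ha
        replace hi : c ^ i = (a : M) := hi
        rw [SubmonoidClass.coe_pow, ← hi, ← zpow_natCast, ← zpow_mul, mul_comm, zpow_mul, zpow_natCast,
          hcp, one_zpow, OneMemClass.coe_one]
    refine PGroup.OddNormalElementary.mem_of_centralizes hp2 (hP.to_le hCP) _ hAe ?_
      (x := (⟨x, hx⟩ : C)) (Subtype.ext hxp) (mem_centralizer_iff.2 fun a ha => ?_)
    · intro K hKn hKe hle
      refine le_antisymm (fun k hk => ?_) hle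
      by_contra hne
      obtain ⟨y, hy, hyZ, hyc⟩ := exists_central_mod (X := C) (K := K.map C.subtype) (Z := zpowers c)
        (hP.to_le hCP) (map_subtype_le K)
        (fun g hg w hw => by
          obtain ⟨w', hw', rfl⟩ := hw
          exact ⟨_, hKn.conj_mem w' hw' ⟨g, hg⟩, rfl⟩)
        (fun h => hne (h ⟨k, hk, rfl⟩))
      obtain ⟨y', hy', rfl⟩ := hy
      exact hyZ (hY ⟨y'.2, congrArg Subtype.val (hKe.2 y' hy'), hyc⟩)
    · obtain ⟨i, hi⟩ := mem_zpowers_iff.1 ha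
      replace hi : c ^ i = (a : M) := hi
      refine Subtype.ext ?_
      show (a : M) * x = x * a
      rw [← hi]
      exact ((hccom x (hCP hx)).symm.zpow_left i).eq
  -- P = E C
  have hindex : C.relIndex P ≤ (zpowers c).relIndex E :=
    relIndex_le_pair (z := c) P E (zpowers c) C (fun g hg e he => he.2.2 g hg)
      (fun e he => hccom e (hEP he))
      (fun g hg b hb => by obtain ⟨i, rfl⟩ := mem_zpowers_iff.1 hb; exact (hccom g hg).zpow_right i)
      (fun g hg h => ⟨hg, mem_centralizer_iff.2 fun e he => (h e he).symm⟩)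
  have hcE : c ∈ E := ⟨hcP, hcp, fun g hg => by
    rw [commutatorElement_eq_one_iff_mul_comm.2 (hccom g hg)]; exact one_mem _⟩
  have htop : E ⊔ C = P := by
    have hle : E ⊔ C ≤ P := sup_le hEP hCP
    have hinf : C.relIndex (E ⊔ C) = (zpowers c).relIndex E := by
      rw [sup_comm, relIndex_sup_left, ← inf_relIndex_right]
      congr 1
      exact le_antisymm (fun x hx => hEC x hx.2 hx.1) (zpowers_le.2 ⟨hcC, hcE⟩)
    have hmul := relIndex_mul_relIndex C (E ⊔ C) P le_sup_right hle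
    rw [hinf] at hmul
    have hpos : 0 < (zpowers c).relIndex E := Nat.pos_of_ne_zero index_ne_zero_of_finite
    have h1 : (E ⊔ C).relIndex P = 1 := by
      have hpos' : 0 < (E ⊔ C).relIndex P := Nat.pos_of_ne_zero index_ne_zero_of_finite
      have : (zpowers c).relIndex E * (E ⊔ C).relIndex P ≤ (zpowers c).relIndex E * 1 := by
        rw [hmul, mul_one]; exact hindex
      have := Nat.le_of_mul_le_mul_left this hpos
      omega
    exact le_antisymm hle (relIndex_eq_one.1 h1)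
  refine ⟨c, E, orderOf_eq_prime hcp hc1, hcP, hccom, hZn, hEP, ?_, fun x hx => hx.2.1, ?_,
    fun g hg x hx => hx.2.2 g (hEP hg), hcen⟩
  · intro x hx hxp
    rw [← htop] at hx
    obtain ⟨e, he, d, hd, rfl⟩ := mem_sup_of_normal_right.1 hx
    have hcomm : Commute e d := mem_centralizer_iff.1 hd.2 e he
    rw [hcomm.mul_pow, he.2.1, one_mul] at hxp
    exact E.mul_mem he ((zpowers_le.2 hcE) (hCom d hd hxp))
  · exact hcE

end Cfsg.Lib.ClassSub
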