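import Cfsg.Agent.Lib.Recog.HalfTransitive.Average
import Cfsg.Agent.Lib.Local.ClassSubnormal.Symplectic

/-!
A normal `p`-subgroup, `p` odd, of a linear group without noncyclic normal elementary abelian subgroups:
some vector is fixed by no conjugate of a given element of order `p`.
-/

set_option autoImplicit false
set_option linter.unusedSectionVars false

namespace Cfsg.Lib.ClassSub

open Finset Subgroup Cfsg.Lib.Recog.HalfTrans
open scoped commutatorElement

variable {q : ℕ} [Fact q.Prime] {V : Type*} [AddCommGroup V] [Module (ZMod q) V] [Finite V]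
  {M : Type*} [Group M] [Finite M] (ρ : M →* (V ≃ₗ[ZMod q] V)) {p : ℕ} [hp : Fact p.Prime]

/-- The vectors fixed by a subgroup. -/
def fixSub (H : Subgroup M) : Submodule (ZMod q) V := ⨅ h : H, fix ρ (h : M)

theorem mem_fixSub {H : Subgroup M} {v : V} : v ∈ fixSub ρ H ↔ ∀ h ∈ H, ρ h v = v := by
  simp [fixSub, Submodule.mem_iInf, mem_fix]

/-- Commuting subgroups without common fixed vector have independent fixed spaces. -/
theorem indep_fixSub {ι : Type*} [Fintype ι] (H : ι → Subgroup M)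
    (hcop : ∀ i, (Nat.card (H i) : ZMod q) ≠ 0)
    (hcomm : ∀ i j, ∀ a ∈ H i, ∀ b ∈ H j, Commute a b)
    (hdis : ∀ i j, i ≠ j → ∀ v, v ∈ fixSub ρ (H i) → v ∈ fixSub ρ (H j) → v = 0)
    (u : ι → V) (hu : ∀ i, u i ∈ fixSub ρ (H i)) (hsum : ∑ i, u i = 0) (j : ι) : u j = 0 := by
  classical
  haveI := Fintype.ofFinite (H j)
  let π : V →ₗ[ZMod q] V := ∑ h : H j, (ρ (h : M)).toLinearMap
  have happ : ∀ v, π v = ∑ h : H j, ρ (h : M) v := fun v => by simp [π, LinearMap.sum_apply]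
  have h1 : π (u j) = (Nat.card (H j) : ZMod q) • u j := by
    have hh : ∀ h : H j, ρ (h : M) (u j) = u j := fun h => (mem_fixSub ρ).1 (hu j) h h.2
    rw [happ, sum_congr rfl fun h _ => hh h, sum_const, card_univ,
      Nat.card_eq_fintype_card, Nat.cast_smul_eq_nsmul]
  have h2 : ∀ i, i ≠ j → π (u i) = 0 := fun i hi => by
    refine hdis i j hi _ ((mem_fixSub ρ).2 fun a ha => ?_) ((mem_fixSub ρ).2 fun a ha => ?_)
    · rw [happ, map_sum]
      refine sum_congr rfl fun h _ => ?_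
      rw [← rho_mul, (hcomm i j a ha h h.2).eq, rho_mul, (mem_fixSub ρ).1 (hu i) a ha]
    · rw [happ, map_sum]
      refine Fintype.sum_equiv (Equiv.mulLeft (⟨a, ha⟩ : H j)) _ _ fun h => ?_
      rw [← rho_mul]
      rfl
  have h3 : π (u j) = 0 := by
    rw [← sum_eq_single_of_mem (s := Finset.univ) (f := fun i => π (u i)) j (mem_univ _) fun i _ hi => h2 i hi,
      ← map_sum, hsum, map_zero]
  exact (smul_eq_zero.1 (h1.symm.trans h3)).resolve_left (hcop j)

theorem mem_fixSub_conj {H : Subgroup M} {g : M} {v : V} (h : v ∈ fixSub ρ H) :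
    ρ g v ∈ fixSub ρ (H.map (MulAut.conj g).toMonoidHom) := by
  rw [mem_fixSub]
  rintro _ ⟨x, hx, rfl⟩
  show ρ (g * x * g⁻¹) (ρ g v) = ρ g v
  rw [← rho_mul, inv_mul_cancel_right, rho_mul, (mem_fixSub ρ).1 h x hx]

/-- Translates of a fixed space by a family of elements. -/
theorem pow_card_le {ι : Type*} [Fintype ι] (H : Subgroup M) (e : ι → M)
    (hcop : (Nat.card H : ZMod q) ≠ 0)
    (hcomm : ∀ i j, ∀ a ∈ H, ∀ b ∈ H, Commute (e i * a * (e i)⁻¹) (e j * b * (e j)⁻¹))
    (hdis : ∀ i j, i ≠ j → ∀ v, v ∈ fixSub ρ (H.map (MulAut.conj (e i)).toMonoidHom) →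
      v ∈ fixSub ρ (H.map (MulAut.conj (e j)).toMonoidHom) → v = 0) :
    Nat.card (fixSub ρ H) ^ Fintype.card ι ≤ Nat.card V := by
  classical
  rw [← Nat.card_eq_fintype_card (α := ι), ← Nat.card_fun]
  refine Nat.card_le_card_of_injective (fun f : ι → fixSub ρ H => ∑ i, ρ (e i) (f i : V)) ?_
  intro f g h
  funext j
  have := indep_fixSub ρ (fun i => H.map (MulAut.conj (e i)).toMonoidHom)
    (fun i => by rwa [card_map_of_injective (MulAut.conj (e i)).injective])
    (fun i j => by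
      rintro _ ⟨a, ha, rfl⟩ _ ⟨b, hb, rfl⟩
      exact hcomm i j a ha b hb)
    hdis (fun i => ρ (e i) ((f i : V) - g i))
    (fun i => mem_fixSub_conj ρ ((fixSub ρ H).sub_mem (f i).2 (g i).2))
    (by simp only [map_sub]; rw [sum_sub_distrib, sub_eq_zero]; exact h) j
  simp only [map_eq_zero_iff _ (ρ (e j)).injective, sub_eq_zero] at this
  exact Subtype.ext this

theorem numeric {p m X W : ℕ} (hp : 3 ≤ p) (hm : 3 ≤ m) (hX : X ^ p ≤ W) (hW : (p + 1) ^ m ≤ W)
    (h : (p - 1) * W ≤ p * m ^ 2 * X) : False := by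
  have hW0 : 0 < W := lt_of_lt_of_le (Nat.pow_pos (by omega)) hW
  have h1 : 2 * W ≤ 3 * m ^ 2 * X := by
    refine Nat.le_of_mul_le_mul_left ?_ (show 0 < p by omega)
    calc p * (2 * W) = (2 * p) * W := by ring
      _ ≤ (3 * (p - 1)) * W := Nat.mul_le_mul_right _ (by omega)
      _ = 3 * ((p - 1) * W) := by ring
      _ ≤ 3 * (p * m ^ 2 * X) := Nat.mul_le_mul_left _ h
      _ = p * (3 * m ^ 2 * X) := by ring
  have h2 : 2 ^ p * W ^ (p - 1) ≤ (3 * m ^ 2) ^ p := by
    refine Nat.le_of_mul_le_mul_right ?_ hW0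
    calc 2 ^ p * W ^ (p - 1) * W = (2 * W) ^ p := by
          rw [mul_assoc, ← pow_succ, show p - 1 + 1 = p by omega, mul_pow]
      _ ≤ (3 * m ^ 2 * X) ^ p := Nat.pow_le_pow_left h1 p
      _ = (3 * m ^ 2) ^ p * X ^ p := by rw [mul_pow]
      _ ≤ (3 * m ^ 2) ^ p * W := Nat.mul_le_mul_left _ hX
  have h3 : (8 * 16 ^ m) ^ p ≤ (27 * m ^ 6) ^ p := by
    have hb : (16 ^ m) ^ p ≤ W ^ ((p - 1) * 3) := by
      calc (16 ^ m) ^ p = (4 ^ m) ^ (2 * p) := by
            rw [show (16 : ℕ) = 4 ^ 2 by norm_num, ← pow_mul, ← pow_mul, ← pow_mul]; ring_nf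
        _ ≤ W ^ (2 * p) := Nat.pow_le_pow_left ((Nat.pow_le_pow_left (by omega) m).trans hW) _
        _ ≤ W ^ ((p - 1) * 3) := Nat.pow_le_pow_right hW0 (by omega)
    calc (8 * 16 ^ m) ^ p = 8 ^ p * (16 ^ m) ^ p := mul_pow _ _ _
      _ ≤ 8 ^ p * W ^ ((p - 1) * 3) := Nat.mul_le_mul_left _ hb
      _ = (2 ^ p * W ^ (p - 1)) ^ 3 := by
          rw [mul_pow, ← pow_mul, ← pow_mul, show (8 : ℕ) = 2 ^ 3 by norm_num, ← pow_mul]; ring_nf
      _ ≤ ((3 * m ^ 2) ^ p) ^ 3 := Nat.pow_le_pow_left h2 3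
      _ = (27 * m ^ 6) ^ p := by
          rw [← pow_mul, mul_comm p 3, pow_mul]; congr 1; ring
  have h4 : ∀ k, 3 ≤ k → 27 * k ^ 6 < 8 * 16 ^ k := by
    intro k hk
    induction k, hk using Nat.le_induction with
    | base => norm_num
    | succ k hk ih =>
      have h64 : (3 * (k + 1)) ^ 6 ≤ (4 * k) ^ 6 := Nat.pow_le_pow_left (by omega) 6
      rw [mul_pow, mul_pow] at h64
      norm_num at h64
      have h16 : 16 ^ (k + 1) = 16 * 16 ^ k := by rw [pow_succ, mul_comm]
      have : 0 < k ^ 6 := Nat.pow_pos (by omega)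
      rw [h16]
      omega
  exact absurd h3 (not_le.2 (Nat.pow_lt_pow_left (h4 m hm) (by omega)))

/-- Every vector-avoidance for a primitive linear group with normal `p`-subgroup. -/
theorem exists_not_fixed_of_symData [Nontrivial V] (hp2 : p ≠ 2) (hpq : p ≠ q)
    (P : Subgroup M) [hPn : P.Normal] (hP : IsPGroup p P) {z : M} {E : Subgroup M} (S : SymData p P z E)
    (hfree : ∀ v, ρ z v = v → v = 0) {a : M} (haP : a ∈ P) (hap : a ^ p = 1) (ha1 : a ≠ 1) :
    ∃ v : V, ∀ g : M, ρ (g * a * g⁻¹) v ≠ v := by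
  classical
  have hz : z ^ p = 1 := by rw [← S.ord, pow_orderOf_eq_one]
  have hfree' : ∀ j : ℕ, 0 < j → j < p → ∀ v, ρ (z ^ j) v = v → v = 0 := fun j h0 hj v hv =>
    hfree v (fix_of_pow_fix ρ hz (by omega) hj hv)
  have hzpow : ∀ x ∈ zpowers z, x ≠ 1 → ∀ v, ρ x v = v → v = 0 := by
    intro x hx hx1
    obtain ⟨j, hj⟩ := mem_powers_iff_mem_zpowers.2 hx
    have hj' : z ^ (j % p) = x := by rw [← S.ord, pow_mod_orderOf]; exact hj
    rw [← hj'] at hx1 ⊢
    exact hfree' (j % p) (Nat.pos_of_ne_zero fun h0 => hx1 (by rw [h0, pow_zero]))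
      (Nat.mod_lt _ hp.out.pos)
  have hPq : ∀ H : Subgroup M, H ≤ P → (Nat.card H : ZMod q) ≠ 0 := fun H hH => by
    obtain ⟨k, hk⟩ := IsPGroup.iff_card.1 (hP.to_le hH)
    rw [hk, Nat.cast_pow]
    exact pow_ne_zero _ (natCast_ne_zero_of_prime hpq)
  by_cases haz : a ∈ zpowers z
  · obtain ⟨v, hv⟩ := exists_ne (0 : V)
    exact ⟨v, fun g h => hv (hzpow _ (S.zn.conj_mem a haz g)
      (fun h1 => ha1 (conj_eq_one_iff.1 h1)) v h)⟩
  have hconjE : ∀ g : M, g * a * g⁻¹ ∈ E := fun g =>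
    S.omega _ (hPn.conj_mem a haP g) (by rw [conj_pow, hap]; simp)
  have hconjZ : ∀ g : M, g * a * g⁻¹ ∉ zpowers z := fun g h => haz (by
    simpa [mul_assoc] using S.zn.conj_mem _ h g⁻¹)
  have hcomm : ∀ g ∈ E, ∀ x ∈ E, ∀ y ∈ E, g * x * g⁻¹ * y = y * (g * x * g⁻¹) ↔ x * y = y * x := by
    intro g hg x hx y hy
    have hxc : g * x * g⁻¹ = ⁅g, x⁆ * x := by rw [commutatorElement_def, inv_mul_cancel_right]
    obtain ⟨k, hk⟩ := mem_zpowers_iff.1 (S.comm g hg x hx)
    have hyk : Commute y (z ^ k) := (S.zc y (S.le hy)).zpow_right k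
    rw [hxc, ← hk, mul_assoc, ← mul_assoc y, hyk.eq, mul_assoc, mul_left_cancel_iff]
  -- a maximal abelian subgroup of E
  obtain ⟨A, ⟨hAE, hzA, hAc⟩, hAmax⟩ := Set.Finite.exists_maximal (Set.toFinite
    {A : Subgroup M | A ≤ E ∧ z ∈ A ∧ ∀ x ∈ A, ∀ y ∈ A, x * y = y * x})
    ⟨zpowers z, zpowers_le.2 S.zE, mem_zpowers z, fun x hx y hy => by
      obtain ⟨i, rfl⟩ := mem_zpowers_iff.1 hx
      obtain ⟨j, rfl⟩ := mem_zpowers_iff.1 hy
      rw [← zpow_add, ← zpow_add, add_comm]⟩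
  have hAself : ∀ x ∈ E, (∀ y ∈ A, x * y = y * x) → x ∈ A := by
    intro x hx hxA
    have hgen : ∀ a ∈ insert x (A : Set M), ∀ b ∈ insert x (A : Set M), a * b = b * a := by
      rintro a (rfl | ha) b (rfl | hb)
      · rfl
      · exact hxA b hb
      · exact (hxA a ha).symm
      · exact hAc a ha b hb
    have hB := isMulCommutative_closure hgen
    exact hAmax (y := Subgroup.closure (insert x (A : Set M)))
      ⟨(Subgroup.closure_le E).2 (Set.insert_subset hx hAE), subset_closure (Set.mem_insert_of_mem _ hzA),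
        fun a ha b hb => congrArg Subtype.val (hB.is_comm.comm (⟨a, ha⟩ : Subgroup.closure _) ⟨b, hb⟩)⟩
      (fun y hy => subset_closure (Set.mem_insert_of_mem _ hy)) (subset_closure (Set.mem_insert x _))
  have hAn : ∀ g ∈ E, ∀ x ∈ A, g * x * g⁻¹ ∈ A := fun g hg x hx => hAself _
    (E.mul_mem (E.mul_mem hg (hAE hx)) (E.inv_mem hg)) fun y hy =>
      (hcomm g hg x (hAE hx) y (hAE hy)).2 (hAc x hx y hy)
  haveI : (A.subgroupOf E).Normal := ⟨fun x hx g => hAn g g.2 x hx⟩
  haveI : ((zpowers z).subgroupOf E).Normal := Subgroup.Normal.subgroupOf S.zn E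
  set m := A.relIndex E with hm
  have hZA : (zpowers z).relIndex A ≤ m :=
    relIndex_le_pair (z := z) A E A (zpowers z) (fun s hs t ht => S.comm s (hAE hs) t ht)
      (fun t ht => S.zc t (S.le ht)) (fun s hs b hb => hAc s hs b hb)
      (fun s hs h => S.center s (hAE hs) h)
  have hcardE : Nat.card E ≤ p * m ^ 2 := by
    have h1 := relIndex_mul_relIndex (zpowers z) A E (zpowers_le.2 hzA) hAE
    have h2 := relIndex_mul_relIndex ⊥ (zpowers z) E bot_le (zpowers_le.2 S.zE)
    rw [relIndex_bot_left, relIndex_bot_left, Nat.card_zpowers, S.ord, ← h1] at h2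
    rw [← h2, ← hm, sq, ← mul_assoc, mul_assoc p]
    exact Nat.mul_le_mul_left _ (Nat.mul_le_mul_right _ hZA)
  have hm3 : 3 ≤ m := by
    obtain ⟨k, hk⟩ := (hP.to_le S.le).index (A.subgroupOf E)
    have hk0 : k ≠ 0 := fun h0 => by
      rw [h0, pow_zero] at hk
      have hEA : E ≤ A := relIndex_eq_one.1 hk
      have := hconjZ 1
      exact this (S.center _ (hconjE 1) fun g hg => hAc _ (hEA (hconjE 1)) g (hEA hg))
    have h1 : m = p ^ k := hk
    have h2 : p ≤ p ^ k := Nat.le_self_pow hk0 p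
    have h3 : 3 ≤ p := lt_of_le_of_ne hp.out.two_le (Ne.symm hp2)
    omega
  -- a complement of z in A with fixed vectors
  obtain ⟨H, ⟨hHA, hH0⟩, hHmax⟩ := Set.Finite.exists_maximal (Set.toFinite
    {H : Subgroup M | H ≤ A ∧ ∃ v, v ≠ 0 ∧ v ∈ fixSub ρ H})
    ⟨⊥, bot_le, by
      obtain ⟨v, hv⟩ := exists_ne (0 : V)
      exact ⟨v, hv, (mem_fixSub ρ).2 fun h hh => by rw [mem_bot.1 hh, rho_one]⟩⟩
  obtain ⟨w, hw0, hw⟩ := hH0
  have hAsup : ∀ y ∈ A, ∃ i : ℕ, y * z ^ i ∈ H := by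
    intro y hy
    have hyp : y ^ p = 1 := S.pow y (hAE hy)
    have hyz : Commute y z := S.zc y (S.le (hAE hy))
    by_contra hno
    push Not at hno
    refine hw0 (eq_zero_of_nsmul hpq ?_)
    rw [← sum_avg ρ hz hyz hfree w]
    refine sum_eq_zero fun i _ => ?_
    by_contra hne
    have hle : H ⊔ zpowers (y * z ^ i) ≤ A :=
      sup_le hHA (zpowers_le.2 (A.mul_mem hy (A.pow_mem hzA i)))
    have hu : avg ρ p (y * z ^ i) w ∈ fixSub ρ (H ⊔ zpowers (y * z ^ i)) := by
      refine (mem_fixSub ρ).2 fun h hh => ?_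
      have hle' : H ⊔ zpowers (y * z ^ i) ≤ stab ρ (avg ρ p (y * z ^ i) w) := by
        refine sup_le (fun h hh => ?_) (zpowers_le.2 (avg_fix ρ (by
          rw [(hyz.pow_right i).mul_pow, hyp, ← pow_mul, mul_comm i p, pow_mul, hz, one_pow, one_mul]) w))
        show ρ h (∑ j ∈ range p, ρ ((y * z ^ i) ^ j) w) = ∑ j ∈ range p, ρ ((y * z ^ i) ^ j) w
        rw [map_sum]
        refine sum_congr rfl fun j _ => ?_
        rw [← rho_mul, hAc h (hHA hh) _ (A.pow_mem (A.mul_mem hy (A.pow_mem hzA i)) j), rho_mul,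
          (mem_fixSub ρ).1 hw h hh]
      exact hle' hh
    exact hno i (hHmax (y := H ⊔ zpowers (y * z ^ i)) ⟨hle, _, hne, hu⟩ le_sup_left
      (mem_sup_right (mem_zpowers _)))
  have hUcard : p + 1 ≤ Nat.card (fixSub ρ H) := by
    have hmem : ∀ i : ℕ, ρ (z ^ i) w ∈ fixSub ρ H := fun i => (mem_fixSub ρ).2 fun h hh => by
      rw [← rho_mul, hAc h (hHA hh) _ (A.pow_mem hzA i), rho_mul, (mem_fixSub ρ).1 hw h hh]
    let f : Option (Fin p) → fixSub ρ H := fun o => o.elim 0 fun i => ⟨ρ (z ^ (i : ℕ)) w, hmem i⟩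
    have hne : ∀ i j : Fin p, i < j → ρ (z ^ (i : ℕ)) w ≠ ρ (z ^ (j : ℕ)) w := by
      intro i j hij h
      have hlt : (i : ℕ) < j := hij
      rw [show (j : ℕ) = i + ((j : ℕ) - i) by omega, pow_add, rho_mul] at h
      exact hw0 (hfree' _ (by omega) (by omega) w ((ρ (z ^ (i : ℕ))).injective h).symm)
    have hf : Function.Injective f := by
      rintro (_ | i) (_ | j) h
      · rfl
      · exact absurd ((map_eq_zero_iff _ (ρ (z ^ (j : ℕ))).injective).1 (congrArg Subtype.val h).symm) hw0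
      · exact absurd ((map_eq_zero_iff _ (ρ (z ^ (i : ℕ))).injective).1 (congrArg Subtype.val h)) hw0
      · rcases lt_trichotomy i j with hij | hij | hij
        · exact absurd (congrArg Subtype.val h) (hne i j hij)
        · rw [hij]
        · exact absurd (congrArg Subtype.val h).symm (hne j i hij)
    have := Nat.card_le_card_of_injective f hf
    rwa [Finite.card_option, Nat.card_fin] at this
  have hWbig : (p + 1) ^ m ≤ Nat.card V := by
    haveI := Fintype.ofFinite (↥E ⧸ A.subgroupOf E)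
    have h := pow_card_le ρ H (fun e : ↥E ⧸ A.subgroupOf E => ((e.out : E) : M))
      (hPq H (hHA.trans (hAE.trans S.le)))
      (fun i j a ha b hb => hAc _ (hAn _ i.out.2 _ (hHA ha)) _ (hAn _ j.out.2 _ (hHA hb))) ?_
    · rw [← Nat.card_eq_fintype_card] at h
      exact (Nat.pow_le_pow_left hUcard m).trans h
    intro i j hij v hi hj
    set e := ((j.out : E) : M)⁻¹ * (i.out : E) with he
    have heE : e ∈ E := E.mul_mem (E.inv_mem j.out.2) i.out.2
    obtain ⟨y, hy, hye⟩ : ∃ y ∈ H, e * y ≠ y * e := by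
      by_contra hc
      push Not at hc
      refine hij ?_
      rw [← QuotientGroup.out_eq' i, ← QuotientGroup.out_eq' j, eq_comm, QuotientGroup.eq]
      refine hAself e heE fun y hy => ?_
      obtain ⟨k, hk⟩ := hAsup y hy
      have hez : Commute e (z ^ k) := (S.zc e (S.le heE)).pow_right k
      have h' := hc _ hk
      rw [mul_assoc y, ← hez.eq, ← mul_assoc, ← mul_assoc] at h'
      exact mul_right_cancel h'
    have hu : ρ ((j.out : E) : M)⁻¹ v ∈ fixSub ρ H := by
      refine (mem_fixSub ρ).2 fun x hx => ?_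
      have h3 := (mem_fixSub ρ).1 hj _ ⟨x, hx, rfl⟩
      simp only [MulEquiv.coe_toMonoidHom, MulAut.conj_apply] at h3
      rw [← rho_mul, show x * ((j.out : E) : M)⁻¹ =
        ((j.out : E) : M)⁻¹ * ((j.out : E) * x * ((j.out : E) : M)⁻¹) by group, rho_mul, h3]
    have h1 := (mem_fixSub ρ).1 hu y hy
    have h2 : ρ (e * y * e⁻¹) (ρ ((j.out : E) : M)⁻¹ v) = ρ ((j.out : E) : M)⁻¹ v := by
      rw [← rho_mul]
      have h3 := (mem_fixSub ρ).1 hi _ ⟨y, hy, rfl⟩
      simp only [MulEquiv.coe_toMonoidHom, MulAut.conj_apply] at h3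
      have : e * y * e⁻¹ * ((j.out : E) : M)⁻¹ =
          ((j.out : E) : M)⁻¹ * ((i.out : E) * y * ((i.out : E) : M)⁻¹) := by
        rw [he]; group
      rw [this, rho_mul, h3]
    have h4 : ρ ⁅e, y⁆ (ρ ((j.out : E) : M)⁻¹ v) = ρ ((j.out : E) : M)⁻¹ v := by
      rw [commutatorElement_def, rho_mul]
      have : ρ y⁻¹ (ρ ((j.out : E) : M)⁻¹ v) = ρ ((j.out : E) : M)⁻¹ v :=
        (mem_fixSub ρ).1 hu _ (H.inv_mem hy)
      rw [this, h2]
    have := hzpow _ (S.comm e heE y (hAE (hHA hy)))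
      (fun h => hye (commutatorElement_eq_one_iff_mul_comm.1 h)) _ h4
    exact (map_eq_zero_iff _ (ρ ((j.out : E) : M)⁻¹).injective).1 this
  -- the fixed space of an element outside the centre
  have hX : ∀ s ∈ E, s ∉ zpowers z → Nat.card (fix ρ s) ^ p ≤ Nat.card V := by
    intro s hs hsz
    obtain ⟨e, he, hes⟩ : ∃ e ∈ E, e * s ≠ s * e := by
      by_contra hc
      push Not at hc
      exact hsz (S.center s hs fun g hg => (hc g hg).symm)
    obtain ⟨k, hk⟩ := mem_powers_iff_mem_zpowers.2 (S.comm e he s hs)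
    have hk' : z ^ k = ⁅e, s⁆ := hk
    have hconj : e * s * e⁻¹ = z ^ k * s := by
      rw [hk', commutatorElement_def, inv_mul_cancel_right]
    have hcs : Commute s z := S.zc s (S.le hs)
    have hce : Commute e z := S.zc e (S.le he)
    have hci : ∀ i : ℕ, e ^ i * s * (e ^ i)⁻¹ = z ^ (k * i) * s := by
      intro i
      induction i with
      | zero => simp
      | succ i ih =>
        calc e ^ (i + 1) * s * (e ^ (i + 1))⁻¹ = e * (e ^ i * s * (e ^ i)⁻¹) * e⁻¹ := by
              rw [pow_succ']; group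
          _ = z ^ (k * i) * (e * s * e⁻¹) := by
              rw [ih, ← mul_assoc e, (hce.pow_right _).eq]; group
          _ = z ^ (k * (i + 1)) * s := by
              rw [hconj, ← mul_assoc, ← pow_add, Nat.mul_succ]
    have hfixs : fixSub ρ (zpowers s) = fix ρ s := by
      ext v
      rw [mem_fixSub, mem_fix]
      refine ⟨fun h => h s (mem_zpowers s), fun h x hx => ?_⟩
      obtain ⟨i, rfl⟩ := mem_powers_iff_mem_zpowers.2 hx
      exact rho_pow_fix ρ h i
    have hkp : ¬ p ∣ k := fun ⟨c, hc⟩ => hes (commutatorElement_eq_one_iff_mul_comm.1 (by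
      rw [← hk', hc, pow_mul, hz, one_pow]))
    have h := pow_card_le ρ (zpowers s) (fun i : Fin p => e ^ (i : ℕ))
      (hPq _ (zpowers_le.2 (S.le hs))) ?_ ?_
    · rwa [Fintype.card_fin, hfixs] at h
    · intro i j x hx y hy
      obtain ⟨x', rfl⟩ := mem_zpowers_iff.1 hx
      obtain ⟨y', rfl⟩ := mem_zpowers_iff.1 hy
      rw [← conj_zpow, ← conj_zpow, hci, hci]
      have hzs : ∀ l : ℕ, Commute (z ^ l) s := fun l => (hcs.symm).pow_left l
      exact (((Commute.refl z).pow_pow _ _).mul_right (hzs _)).mul_left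
        ((hzs _).symm.mul_right (Commute.refl s)) |>.zpow_zpow x' y'
    · intro i j hij v hi hj
      have key : ∀ i : Fin p, v ∈ fixSub ρ ((zpowers s).map (MulAut.conj (e ^ (i : ℕ))).toMonoidHom) →
          ρ (z ^ (k * i)) (ρ s v) = v := by
        intro i hi
        rw [← rho_mul, ← hci]
        exact (mem_fixSub ρ).1 hi _ ⟨s, mem_zpowers s, rfl⟩
      have main : ∀ i j : Fin p, i < j → ρ (z ^ (k * i)) (ρ s v) = v → ρ (z ^ (k * j)) (ρ s v) = v →
          v = 0 := by
        intro i j hlt h1 h2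
        have hlt' : (i : ℕ) < j := hlt
        rw [show k * (j : ℕ) = k * ((j : ℕ) - i) + k * i by rw [← mul_add, Nat.sub_add_cancel hlt'.le],
          pow_add, rho_mul, h1] at h2
        refine hzpow _ (pow_mem (mem_zpowers z) _) (fun h => ?_) v h2
        have hd := orderOf_dvd_of_pow_eq_one h
        rw [S.ord] at hd
        rcases hp.out.dvd_mul.1 hd with hd | hd
        · exact hkp hd
        · have := Nat.le_of_dvd (by omega) hd
          omega
      rcases lt_or_gt_of_ne hij with h | h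
      · exact main i j h (key i hi) (key j hj)
      · exact main j i h (key j hj) (key i hi)
  -- counting
  by_contra hno
  push Not at hno
  haveI := Fintype.ofFinite V
  haveI := Fintype.ofFinite M
  set T := Finset.univ.filter (fun s : M => s ∈ E ∧ s ∉ zpowers z) with hT
  obtain ⟨s0, hs0, hmax⟩ := T.exists_max_image (fun s => Nat.card (fix ρ s))
    ⟨1 * a * 1⁻¹, by simp only [hT, mem_filter, Finset.mem_univ, true_and]; exact ⟨hconjE 1, hconjZ 1⟩⟩
  simp only [hT, mem_filter, Finset.mem_univ, true_and] at hs0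
  set X := Nat.card (fix ρ s0) with hXdef
  set U := (Finset.univ.filter (fun v : V => v ≠ 0)) with hU
  have hUc : U.card = Nat.card V - 1 := by
    rw [hU, Finset.filter_ne', Finset.card_erase_of_mem (Finset.mem_univ _), Finset.card_univ,
      Nat.card_eq_fintype_card]
  have hleft : ∀ s ∈ T, (U.filter (fun v => ρ s v = v)).card ≤ X - 1 := by
    intro s hs
    have hsub : U.filter (fun v => ρ s v = v) ⊆
        (Finset.univ.filter (fun v : V => ρ s v = v)).erase 0 := by
      intro v hv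
      simp only [hU, mem_filter, Finset.mem_univ, true_and] at hv
      simp [hv.1, hv.2]
    refine (Finset.card_le_card hsub).trans ?_
    rw [Finset.card_erase_of_mem (by simp), ← Fintype.card_subtype, ← Nat.card_eq_fintype_card]
    exact Nat.sub_le_sub_right (hmax s hs) 1
  have hright : ∀ v ∈ U, p - 1 ≤ (T.filter (fun s => ρ s v = v)).card := by
    intro v _
    obtain ⟨g, hg⟩ := hno v
    set b := g * a * g⁻¹ with hb
    have hbo : orderOf b = p := orderOf_eq_prime (by rw [hb, conj_pow, hap]; simp)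
      (fun h => ha1 (conj_eq_one_iff.1 h))
    rw [show p - 1 = (Finset.Ioo 0 p).card by simp]
    refine Finset.card_le_card_of_injOn (fun k => b ^ k) (fun k hk => ?_) ?_
    · simp only [Finset.coe_Ioo, Set.mem_Ioo] at hk
      simp only [hT, Finset.coe_filter, Finset.mem_filter, Finset.mem_univ, true_and, Set.mem_setOf_eq]
      refine ⟨⟨E.pow_mem (hconjE g) k, fun h => hconjZ g ?_⟩, rho_pow_fix ρ hg k⟩
      obtain ⟨l, hl⟩ := exists_pow_eq_self_of_coprime (x := b) (n := k) (by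
        rw [hbo]
        exact (hp.out.coprime_iff_not_dvd.2 (Nat.not_dvd_of_pos_of_lt hk.1 hk.2)).symm)
      rw [← hb, ← hl]
      exact pow_mem h l
    · intro i hi j hj h
      simp only [Finset.coe_Ioo, Set.mem_Ioo] at hi hj
      exact pow_injOn_Iio_orderOf (by simpa [hbo] using hi.2) (by simpa [hbo] using hj.2) h
  have hcount : U.card * (p - 1) ≤ T.card * (X - 1) :=
    Finset.card_mul_le_card_mul (fun (v : V) (s : M) => ρ s v = v) hright hleft
  have hTE : T.card ≤ p * m ^ 2 := by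
    refine le_trans ?_ hcardE
    rw [Nat.card_eq_fintype_card, Fintype.card_subtype]
    exact Finset.card_le_card fun s hs => by
      simp only [hT, mem_filter, Finset.mem_univ, true_and] at hs ⊢
      exact hs.1
  refine numeric (lt_of_le_of_ne hp.out.two_le (Ne.symm hp2)) hm3 (hX s0 hs0.1 hs0.2) hWbig ?_
  rw [hUc] at hcount
  have h1 : (Nat.card V - 1) * (p - 1) ≤ p * m ^ 2 * (X - 1) :=
    hcount.trans (Nat.mul_le_mul_right _ hTE)
  have hX1 : 1 ≤ X := Nat.card_pos
  have hW1 : 1 ≤ Nat.card V := Nat.card_pos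
  have hbig : p - 1 ≤ p * m ^ 2 := by
    calc p - 1 ≤ p * 1 := by omega
      _ ≤ p * m ^ 2 := Nat.mul_le_mul_left _ (Nat.one_le_pow _ _ (by omega))
  calc (p - 1) * Nat.card V = (Nat.card V - 1) * (p - 1) + (p - 1) := by
        conv_rhs => rw [← Nat.succ_mul, Nat.succ_eq_add_one, Nat.sub_add_cancel hW1, mul_comm]
    _ ≤ p * m ^ 2 * (X - 1) + p * m ^ 2 := Nat.add_le_add h1 hbig
    _ = p * m ^ 2 * X := by rw [← Nat.mul_succ, Nat.succ_eq_add_one, Nat.sub_add_cancel hX1]

end Cfsg.Lib.ClassSub
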