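import Mathlib.GroupTheory.GroupAction.Primitive
import Cfsg.Agent.Lib.Local.ClassSubnormal.Primitive

/-!
In an irreducible linear group with a normal `p`-subgroup `P`, `p` odd, every nontrivial element of `P` has
a vector that none of its conjugates fixes.
-/

set_option autoImplicit false
set_option linter.unusedSectionVars false

namespace Cfsg.Lib.ClassSub

open Finset Subgroup Cfsg.Lib.Recog.HalfTrans

universe u

variable {q : ℕ} [hq : Fact q.Prime] {V : Type u} [AddCommGroup V] [Module (ZMod q) V] [Finite V]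
  {M : Type u} [Group M] [Finite M] (ρ : M →* (V ≃ₗ[ZMod q] V)) {p : ℕ} [hp : Fact p.Prime]

/-- No invariant subspace other than the trivial ones. -/
def Irr : Prop := ∀ W : Submodule (ZMod q) V, (∀ g, ∀ w ∈ W, ρ g w ∈ W) → W = ⊥ ∨ W = ⊤

/-- A decomposition into at least two subspaces permuted by the group. -/
structure Sys (B : Finset (Submodule (ZMod q) V)) : Prop where
  two : 2 ≤ B.card
  ne : ∀ U ∈ B, U ≠ ⊥
  indep : iSupIndep (fun U : B => (U : Submodule (ZMod q) V))
  top : ⨆ U : B, (U : Submodule (ZMod q) V) = ⊤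
  perm : ∀ g, ∀ U ∈ B, U.map (ρ g).toLinearMap ∈ B

theorem map_rho_mul (g h : M) (U : Submodule (ZMod q) V) :
    U.map (ρ (g * h)).toLinearMap = (U.map (ρ h).toLinearMap).map (ρ g).toLinearMap := by
  rw [← Submodule.map_comp, map_mul]
  rfl

theorem map_rho_one (U : Submodule (ZMod q) V) : U.map (ρ 1).toLinearMap = U := by
  rw [map_one]
  exact Submodule.map_id U

theorem mem_map_rho {U : Submodule (ZMod q) V} {g : M} {v : V} :
    v ∈ U.map (ρ g).toLinearMap ↔ ρ g⁻¹ v ∈ U := by
  constructor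
  · rintro ⟨w, hw, rfl⟩
    show ρ g⁻¹ (ρ g w) ∈ U
    rwa [rho_inv_apply]
  · intro h
    exact ⟨_, h, show ρ g (ρ g⁻¹ v) = v by rw [← rho_mul, mul_inv_cancel, rho_one]⟩

variable {ρ}

theorem eq_zero_of_sum {ι : Type*} [Fintype ι] {W : ι → Submodule (ZMod q) V} (h : iSupIndep W)
    (u : ι → V) (hu : ∀ i, u i ∈ W i) (hsum : ∑ i, u i = 0) (j : ι) : u j = 0 := by
  classical
  have hd : u j ∈ W j ⊓ ⨆ i, ⨆ (_ : i ≠ j), W i := by
    refine ⟨hu j, ?_⟩
    have : u j = -∑ i ∈ Finset.univ.erase j, u i := by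
      rw [eq_neg_iff_add_eq_zero, Finset.add_sum_erase _ _ (Finset.mem_univ j), hsum]
    rw [this]
    refine Submodule.neg_mem _ (Submodule.sum_mem _ fun i hi => ?_)
    exact (le_iSup₂ (f := fun i (_ : i ≠ j) => W i) i (Finset.ne_of_mem_erase hi)) (hu i)
  rw [(h j).eq_bot] at hd
  exact (Submodule.mem_bot _).1 hd

variable {B : Finset (Submodule (ZMod q) V)} (S : Sys ρ B)

include S

theorem Sys.eq_of_mem {U W : Submodule (ZMod q) V} (hU : U ∈ B) (hW : W ∈ B) {v : V} (hv : v ≠ 0)
    (h1 : v ∈ U) (h2 : v ∈ W) : U = W := by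
  by_contra hne
  refine hv ((Submodule.mem_bot (R := ZMod q)).1 ?_)
  rw [← (S.indep ⟨U, hU⟩).eq_bot]
  exact ⟨h1, (le_iSup₂ (f := fun (W : B) (_ : W ≠ ⟨U, hU⟩) => (W : Submodule (ZMod q) V))
    ⟨W, hW⟩ (fun h => hne (congrArg Subtype.val h).symm)) h2⟩

theorem Sys.trans (hirr : Irr ρ) {U W : Submodule (ZMod q) V} (hU : U ∈ B) (hW : W ∈ B) :
    ∃ g, U.map (ρ g).toLinearMap = W := by
  classical
  set T := ⨆ g : M, U.map (ρ g).toLinearMap with hT
  have htop : T = ⊤ := by
    refine (hirr T fun g w hw => ?_).resolve_left fun h => S.ne U hU (eq_bot_iff.2 ?_)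
    · have : T.map (ρ g).toLinearMap ≤ T := by
        rw [hT, Submodule.map_iSup]
        refine iSup_le fun h => ?_
        rw [← map_rho_mul]
        exact le_iSup (fun k => U.map (ρ k).toLinearMap) (g * h)
      exact this ⟨w, hw, rfl⟩
    · rw [← h]
      have := le_iSup (fun g : M => U.map (ρ g).toLinearMap) 1
      rwa [map_rho_one] at this
  by_contra hno
  push Not at hno
  refine S.ne W hW (eq_bot_iff.2 ?_)
  rw [← (S.indep ⟨W, hW⟩).eq_bot]
  refine le_inf le_rfl (le_top.trans (htop ▸ ?_))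
  exact iSup_le fun g => le_iSup₂ (f := fun (X : B) (_ : X ≠ ⟨W, hW⟩) => (X : Submodule (ZMod q) V))
    ⟨_, S.perm g U hU⟩ (fun h => hno g (congrArg Subtype.val h))

/-- The action on the members of a system. -/
@[reducible]
def Sys.action : MulAction M B where
  smul g U := ⟨(U : Submodule (ZMod q) V).map (ρ g).toLinearMap, S.perm g U U.2⟩
  one_smul U := Subtype.ext (map_rho_one ρ _)
  mul_smul g h U := Subtype.ext (map_rho_mul ρ g h _)

theorem Sys.card_lt {U : Submodule (ZMod q) V} (hU : U ∈ B) : Nat.card U < Nat.card V := by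
  obtain ⟨W, hW, hne⟩ := B.exists_mem_ne (by have := S.two; omega) U
  obtain ⟨w, hw, hw0⟩ := W.exists_mem_ne_zero_of_ne_bot (S.ne W hW)
  refine lt_of_le_of_ne (Nat.card_le_card_of_injective _ Subtype.val_injective) fun h => ?_
  have hb : Function.Bijective (Subtype.val : U → V) :=
    (Nat.bijective_iff_injective_and_card _).2 ⟨Subtype.val_injective, h⟩
  obtain ⟨⟨x, hx⟩, rfl⟩ := hb.2 w
  exact hne (S.eq_of_mem hU hW hw0 hx hw).symm

theorem Sys.irr_stab (hirr : Irr ρ) {U : Submodule (ZMod q) V} (hU : U ∈ B) (W : Submodule (ZMod q) V)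
    (hWU : W ≤ U) (hW : ∀ g, U.map (ρ g).toLinearMap = U → ∀ w ∈ W, ρ g w ∈ W) : W = ⊥ ∨ W = U := by
  classical
  refine or_iff_not_imp_left.2 fun hW0 => le_antisymm hWU ?_
  set T := ⨆ g : M, W.map (ρ g).toLinearMap with hT
  have hWT : W ≤ T := by
    have := le_iSup (fun g : M => W.map (ρ g).toLinearMap) 1
    rwa [map_rho_one] at this
  have htop : T = ⊤ := by
    refine (hirr T fun g w hw => ?_).resolve_left fun h => hW0 (eq_bot_iff.2 (h ▸ hWT))
    have : T.map (ρ g).toLinearMap ≤ T := by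
      rw [hT, Submodule.map_iSup]
      refine iSup_le fun h => ?_
      rw [← map_rho_mul]
      exact le_iSup (fun k => W.map (ρ k).toLinearMap) (g * h)
    exact this ⟨w, hw, rfl⟩
  set R := ⨆ (X : B) (_ : X ≠ ⟨U, hU⟩), (X : Submodule (ZMod q) V) with hR
  have hle : T ≤ W ⊔ R := by
    refine iSup_le fun g => ?_
    by_cases hg : U.map (ρ g).toLinearMap = U
    · refine le_trans ?_ le_sup_left
      rintro _ ⟨w, hw, rfl⟩
      exact hW g hg w hw
    · refine le_trans ?_ le_sup_right
      exact (Submodule.map_mono hWU).trans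
        (le_iSup₂ (f := fun (X : B) (_ : X ≠ ⟨U, hU⟩) => (X : Submodule (ZMod q) V))
          ⟨_, S.perm g U hU⟩ (fun h => hg (congrArg Subtype.val h)))
  intro x hx
  have := hle (htop.ge (Submodule.mem_top : x ∈ ⊤))
  obtain ⟨a, ha, b, hb, rfl⟩ := Submodule.mem_sup.1 this
  have hb0 : b ∈ U ⊓ R := ⟨by simpa using U.sub_mem hx (hWU ha), hb⟩
  rw [(S.indep ⟨U, hU⟩).eq_bot] at hb0
  rwa [(Submodule.mem_bot _).1 hb0, add_zero]

/-- Grouping the members along a block. -/
theorem Sys.coarsen (hirr : Irr ρ) (hBlk : ∀ C : Finset (Submodule (ZMod q) V), Sys ρ C → B.card ≤ C.card) :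
    @MulAction.IsPreprimitive M B S.action.toSMul := by
  classical
  letI := S.action
  haveI : MulAction.IsPretransitive M B := ⟨fun U W => by
    obtain ⟨g, hg⟩ := S.trans hirr U.2 W.2
    exact ⟨g, Subtype.ext hg⟩⟩
  refine ⟨fun {Bk} hBk => ?_⟩
  by_contra htriv
  rw [MulAction.IsTrivialBlock, not_or, Set.not_subsingleton_iff] at htriv
  obtain ⟨⟨x, hx, y, hy, hxy⟩, huniv⟩ := htriv
  let σ : Set B → Submodule (ZMod q) V := fun s => ⨆ U ∈ s, (U : Submodule (ZMod q) V)
  open Pointwise in
  have hdisj : ∀ g h : M, g • Bk ≠ h • Bk → Disjoint (g • Bk) (h • Bk) := fun g h hne => hBk hne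
  open Pointwise in
  set C : Finset (Submodule (ZMod q) V) := (Set.toFinite (Set.range fun g : M => σ (g • Bk))).toFinset
    with hCdef
  have hmemC : ∀ W, W ∈ C ↔ ∃ g : M, σ (g • Bk) = W := by simp [hCdef]
  open Pointwise in
  have hσmap : ∀ (g : M) (s : Set B), (σ s).map (ρ g).toLinearMap = σ (g • s) := by
    intro g s
    simp only [σ, Submodule.map_iSup]
    refine le_antisymm (iSup₂_le fun U hU => ?_) (iSup₂_le fun U hU => ?_)
    · exact le_iSup₂ (f := fun (U : B) (_ : U ∈ g • s) => (U : Submodule (ZMod q) V)) (g • U)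
        (Set.smul_mem_smul_set hU)
    · obtain ⟨U', hU', rfl⟩ := hU
      exact le_iSup₂ (f := fun (U : B) (_ : U ∈ s) => (U : Submodule (ZMod q) V).map (ρ g).toLinearMap) U' hU'
  have hσne : ∀ g : M, σ (g • Bk) ≠ ⊥ := fun g h => S.ne _ (g • x).2 (eq_bot_iff.2
    (h ▸ le_iSup₂ (f := fun (U : B) (_ : U ∈ g • Bk) => (U : Submodule (ZMod q) V)) (g • x)
      (Set.smul_mem_smul_set hx)))
  have hCne : σ ((1 : M) • Bk) ∈ C := (hmemC _).2 ⟨1, rfl⟩
  have hsys : Sys ρ C := by
    refine ⟨?_, fun W hW => ?_, ?_, ?_, fun g W hW => ?_⟩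
    · -- two different translates
      obtain ⟨w, hw⟩ := (Set.ne_univ_iff_exists_notMem _).1 huniv
      obtain ⟨g, hg⟩ := MulAction.exists_smul_eq M x w
      refine Finset.one_lt_card.2 ⟨_, hCne, σ (g • Bk), (hmemC _).2 ⟨g, rfl⟩, fun h => ?_⟩
      have hne : g • Bk ≠ (1 : M) • Bk := fun he => hw (by
        rw [one_smul] at he
        rw [← he, ← hg]
        exact Set.smul_mem_smul_set hx)
      have hle : (w : Submodule (ZMod q) V) ≤ σ ((1 : M) • Bk) := h ▸
        le_iSup₂ (f := fun (U : B) (_ : U ∈ g • Bk) => (U : Submodule (ZMod q) V)) w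
          (hg ▸ Set.smul_mem_smul_set hx)
      have hd : Disjoint (w : Submodule (ZMod q) V) (σ ((1 : M) • Bk)) :=
        S.indep.disjoint_biSup (by rw [one_smul]; exact hw)
      exact S.ne _ w.2 (disjoint_self.1 (hd.mono_right hle))
    · obtain ⟨g, rfl⟩ := (hmemC W).1 hW
      exact hσne g
    · intro W
      obtain ⟨g, hg⟩ := (hmemC W).1 W.2
      rw [disjoint_iff, eq_bot_iff]
      intro v hv
      obtain ⟨hv1, hv2⟩ := hv
      have h2 : (⨆ (X : C) (_ : X ≠ W), (X : Submodule (ZMod q) V)) ≤ σ (g • Bk)ᶜ := by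
        refine iSup₂_le fun X hX => ?_
        obtain ⟨h, hh⟩ := (hmemC X).1 X.2
        rw [← hh]
        refine iSup₂_le fun U hU => le_iSup₂ (f := fun (U : B) (_ : U ∈ (g • Bk)ᶜ) =>
          (U : Submodule (ZMod q) V)) U ?_
        intro hU'
        have hne : g • Bk ≠ h • Bk := fun he => hX (Subtype.ext (by rw [← hh, ← hg, he]))
        exact Set.disjoint_left.1 (hdisj g h hne) hU' hU
      have hd : ∀ s : Set B, Disjoint (σ s) (σ sᶜ) := by
        intro s
        rw [disjoint_iff, eq_bot_iff]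
        intro v ⟨ha, hb⟩
        haveI := Fintype.ofFinite B
        obtain ⟨f, hf⟩ := (Submodule.mem_iSup_iff_exists_dfinsupp _ v).1
          (show v ∈ ⨆ U : B, if U ∈ s then (U : Submodule (ZMod q) V) else ⊥ from by
            refine (iSup₂_le fun U hU => ?_ : σ s ≤ _) ha
            exact le_trans (by rw [if_pos hU]) (le_iSup (fun U : B =>
              if U ∈ s then (U : Submodule (ZMod q) V) else ⊥) U))
        obtain ⟨f', hf'⟩ := (Submodule.mem_iSup_iff_exists_dfinsupp _ v).1
          (show v ∈ ⨆ U : B, if U ∈ s then ⊥ else (U : Submodule (ZMod q) V) from by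
            refine (iSup₂_le fun U hU => ?_ : σ sᶜ ≤ _) hb
            exact le_trans (by rw [if_neg hU]) (le_iSup (fun U : B =>
              if U ∈ s then ⊥ else (U : Submodule (ZMod q) V)) U))
        simp only [DFinsupp.sumAddHom_apply, DFinsupp.lsum_apply_apply, LinearMap.toAddMonoidHom_coe,
          Submodule.coe_subtype] at hf hf'
        rw [DFinsupp.sum, Finset.sum_subset (Finset.subset_univ _) (fun i _ hi => by
          rw [DFinsupp.notMem_support_iff.1 hi]; rfl)] at hf hf'
        have hz : ∀ U : B, ((f U : V) - f' U) = 0 := eq_zero_of_sum S.indep _ (fun U => by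
          refine Submodule.sub_mem _ ?_ ?_
          · have := (f U).2
            split_ifs at this with h
            · exact this
            · rw [(Submodule.mem_bot _).1 this]; exact zero_mem _
          · have := (f' U).2
            split_ifs at this with h
            · rw [(Submodule.mem_bot _).1 this]; exact zero_mem _
            · exact this)
          (by rw [Finset.sum_sub_distrib, hf, hf', sub_self])
        rw [Submodule.mem_bot, ← hf]
        refine Finset.sum_eq_zero fun U _ => ?_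
        by_cases h : U ∈ s
        · have h' := (f' U).2
          have : (f' U : V) = 0 := by
            split_ifs at h'
            exact (Submodule.mem_bot _).1 h'
          have h0 := hz U
          rw [this, sub_zero] at h0
          exact h0
        · have h' := (f U).2
          split_ifs at h'
          exact (Submodule.mem_bot _).1 h'
      exact (hd (g • Bk)).le_bot ⟨hg.ge hv1, h2 hv2⟩
    · refine eq_top_iff.2 (S.top.ge.trans (iSup_le fun U => ?_))
      obtain ⟨g, hg⟩ := MulAction.exists_smul_eq M x U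
      refine le_trans ?_ (le_iSup (fun W : C => (W : Submodule (ZMod q) V)) ⟨σ (g • Bk), (hmemC _).2 ⟨g, rfl⟩⟩)
      exact le_iSup₂ (f := fun (U : B) (_ : U ∈ g • Bk) => (U : Submodule (ZMod q) V)) U
        (hg ▸ Set.smul_mem_smul_set hx)
    · obtain ⟨h, rfl⟩ := (hmemC W).1 hW
      rw [hσmap, smul_smul]
      exact (hmemC _).2 ⟨g * h, rfl⟩
  -- fewer members
  have hlt : C.card < B.card := by
    have hsurj : ∀ W ∈ C, ∃ U : B, σ ((Classical.choose (MulAction.exists_smul_eq M x U)) • Bk) = W := by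
      intro W hW
      obtain ⟨g, rfl⟩ := (hmemC W).1 hW
      refine ⟨g • x, ?_⟩
      have hc := Classical.choose_spec (MulAction.exists_smul_eq M x (g • x))
      set k := Classical.choose (MulAction.exists_smul_eq M x (g • x))
      congr 1
      by_contra hne
      refine Set.disjoint_left.1 (hdisj k g hne) ?_ (Set.smul_mem_smul_set (a := g) hx)
      rw [← hc]
      exact Set.smul_mem_smul_set hx
    let F : B → Submodule (ZMod q) V := fun U =>
      σ ((Classical.choose (MulAction.exists_smul_eq M x U)) • Bk)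
    have hF : ∀ U : B, U ∈ Bk → F U = σ Bk := by
      intro U hU
      have hc := Classical.choose_spec (MulAction.exists_smul_eq M x U)
      set k := Classical.choose (MulAction.exists_smul_eq M x U) with hk
      show σ (k • Bk) = σ Bk
      congr 1
      by_contra hne
      have := hdisj k 1 (by rwa [one_smul])
      rw [one_smul] at this
      refine Set.disjoint_left.1 this ?_ hU
      rw [← hc]
      exact Set.smul_mem_smul_set hx
    have himg : C ⊆ (Finset.univ : Finset B).image F := fun W hW => by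
      obtain ⟨U, hU⟩ := hsurj W hW
      exact Finset.mem_image.2 ⟨U, Finset.mem_univ _, hU⟩
    refine lt_of_le_of_lt (Finset.card_le_card himg) (lt_of_le_of_ne (Finset.card_image_le.trans ?_) ?_)
    · rw [Finset.card_univ, Fintype.card_coe]
    · intro he
      replace he := Finset.card_image_iff.1
        (he.trans ((Finset.card_univ).trans (Fintype.card_coe B)).symm)
      exact hxy (he (Finset.mem_coe.2 (Finset.mem_univ x)) (Finset.mem_coe.2 (Finset.mem_univ y))
        ((hF x hx).trans (hF y hy).symm))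
  exact absurd (hBlk C hsys) (not_le.2 hlt)

omit S

variable (ρ)

/-- Without a system, normal elementary abelian subgroups act freely. -/
theorem free_of_no_sys (hρ : Function.Injective ρ) (hirr : Irr ρ) (hno : ∀ B, ¬ Sys ρ B) [Nontrivial V]
    (hpq : p ≠ q) (T : Subgroup M) [hTn : T.Normal] (hT : Cfsg.IsElementaryAbelian p T) :
    ∀ t ∈ T, t ≠ 1 → ∀ v, ρ t v = v → v = 0 := by
  classical
  intro t ht ht1 v hv
  by_contra hv0
  let S : Set (Subgroup M) := {H | H ≤ T ∧ ∃ w, w ≠ 0 ∧ w ∈ fixSub ρ H}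
  let C : Set (Subgroup M) := {H | Maximal (· ∈ S) H}
  set B : Finset (Submodule (ZMod q) V) := ((Set.toFinite C).image (fixSub ρ)).toFinset with hB
  have hmemB : ∀ W, W ∈ B ↔ ∃ H ∈ C, fixSub ρ H = W := by simp [hB]
  have hcop : ∀ H, H ≤ T → (Nat.card H : ZMod q) ≠ 0 := fun H hH => by
    have hTp : IsPGroup p T := fun x => ⟨1, Subtype.ext (by simpa using hT.2 x x.2)⟩
    obtain ⟨k, hk⟩ := IsPGroup.iff_card.1 (hTp.to_le hH)
    rw [hk, Nat.cast_pow]
    exact pow_ne_zero _ (natCast_ne_zero_of_prime hpq)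
  have hdis : ∀ H ∈ C, ∀ K ∈ C, H ≠ K → ∀ w, w ∈ fixSub ρ H → w ∈ fixSub ρ K → w = 0 := by
    intro H hH K hK hne w h1 h2
    by_contra hw
    have hsup : H ⊔ K ∈ S := ⟨sup_le hH.1.1 hK.1.1, w, hw, (mem_fixSub ρ).2 fun h hh => by
      have : H ⊔ K ≤ stab ρ w := sup_le ((mem_fixSub ρ).1 h1) ((mem_fixSub ρ).1 h2)
      exact this hh⟩
    exact hne ((le_antisymm le_sup_left (hH.2 hsup le_sup_left)).trans
      (le_antisymm le_sup_right (hK.2 hsup le_sup_right)).symm)
  have hperm : ∀ g, ∀ W ∈ B, W.map (ρ g).toLinearMap ∈ B := by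
    intro g W hW
    obtain ⟨H, hH, rfl⟩ := (hmemB W).1 hW
    have hconj : ∀ (g : M) (H : Subgroup M), H ∈ S → H.map (MulAut.conj g).toMonoidHom ∈ S := by
      rintro g H ⟨hle, w, hw, hwf⟩
      refine ⟨?_, ρ g w, fun h => hw ((map_eq_zero_iff _ (ρ g).injective).1 h), mem_fixSub_conj ρ hwf⟩
      rintro _ ⟨x, hx, rfl⟩
      exact hTn.conj_mem x (hle hx) g
    refine (hmemB _).2 ⟨H.map (MulAut.conj g).toMonoidHom, ⟨hconj g H hH.1, fun K hK hle => ?_⟩, ?_⟩
    · intro x hx
      have hHK : H ≤ K.map (MulAut.conj g⁻¹).toMonoidHom := fun h hh =>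
        ⟨g * h * g⁻¹, hle ⟨h, hh, rfl⟩, by simp [mul_assoc]⟩
      exact ⟨g⁻¹ * x * g, hH.2 (hconj g⁻¹ K hK) hHK ⟨x, hx, by simp⟩, by simp [mul_assoc]⟩
    · refine le_antisymm (fun w hw => (mem_map_rho ρ).2 ((mem_fixSub ρ).2 fun h hh => ?_))
        (fun w hw => ?_)
      · have := (mem_fixSub ρ).1 hw _ ⟨h, hh, rfl⟩
        simp only [MulEquiv.coe_toMonoidHom, MulAut.conj_apply] at this
        rw [← rho_mul, show h * g⁻¹ = g⁻¹ * (g * h * g⁻¹) by group, rho_mul, this]
      · obtain ⟨w', hw', rfl⟩ := hw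
        exact mem_fixSub_conj ρ hw'
  obtain ⟨H0, hle0, hH0⟩ := (Set.toFinite S).exists_le_maximal
    (show zpowers t ∈ S from ⟨zpowers_le.2 ht, v, hv0, (mem_fixSub ρ).2 fun x hx => by
      obtain ⟨i, rfl⟩ := mem_powers_iff_mem_zpowers.2 hx
      exact rho_pow_fix ρ hv i⟩)
  have hne : ∀ W ∈ B, W ≠ ⊥ := fun W hW h => by
    obtain ⟨H, hH, rfl⟩ := (hmemB W).1 hW
    obtain ⟨w, hw, hwf⟩ := hH.1.2
    rw [h] at hwf
    exact hw ((Submodule.mem_bot _).1 hwf)
  have htop : ⨆ U : B, (U : Submodule (ZMod q) V) = ⊤ := by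
    refine (hirr _ fun g w hw => ?_).resolve_left fun h => hne _ ((hmemB _).2 ⟨H0, hH0, rfl⟩)
      (eq_bot_iff.2 (h ▸ le_iSup (fun U : B => (U : Submodule (ZMod q) V)) ⟨_, (hmemB _).2 ⟨H0, hH0, rfl⟩⟩))
    have : (⨆ U : B, (U : Submodule (ZMod q) V)).map (ρ g).toLinearMap ≤
        ⨆ U : B, (U : Submodule (ZMod q) V) := by
      rw [Submodule.map_iSup]
      exact iSup_le fun U => le_iSup (fun U : B => (U : Submodule (ZMod q) V)) ⟨_, hperm g U U.2⟩
    exact this ⟨w, hw, rfl⟩
  refine hno B ⟨?_, hne, ?_, htop, hperm⟩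
  · by_contra hlt
    have huniq : ∀ U : B, (U : Submodule (ZMod q) V) = fixSub ρ H0 := fun U =>
      Finset.card_le_one.1 (by omega) _ U.2 _ ((hmemB _).2 ⟨H0, hH0, rfl⟩)
    have hall : fixSub ρ H0 = ⊤ := eq_top_iff.2 (htop.ge.trans (iSup_le fun U => (huniq U).le))
    refine ht1 (hρ (LinearEquiv.ext fun w => ?_))
    rw [rho_one]
    exact (mem_fixSub ρ).1 (hall.ge Submodule.mem_top) t (hle0 (mem_zpowers t))
  · intro U
    rw [disjoint_iff, eq_bot_iff]
    intro w ⟨h1, h2⟩
    obtain ⟨f, hf⟩ := (Submodule.mem_iSup_iff_exists_dfinsupp _ w).1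
      (show w ∈ ⨆ X : B, if X = U then ⊥ else (X : Submodule (ZMod q) V) from by
        refine (iSup₂_le fun X hX => ?_ : (⨆ (X : B) (_ : X ≠ U), (X : Submodule (ZMod q) V)) ≤ _) h2
        exact le_trans (by rw [if_neg hX]) (le_iSup (fun X : B =>
          if X = U then ⊥ else (X : Submodule (ZMod q) V)) X))
    simp only [DFinsupp.sumAddHom_apply, DFinsupp.lsum_apply_apply, LinearMap.toAddMonoidHom_coe,
      Submodule.coe_subtype] at hf
    rw [DFinsupp.sum, Finset.sum_subset (Finset.subset_univ _) (fun i _ hi => by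
      rw [DFinsupp.notMem_support_iff.1 hi]; rfl)] at hf
    choose H hHC hHeq using fun X : B => (hmemB X).1 X.2
    have hne' : ∀ X Y : B, X ≠ Y → H X ≠ H Y := fun X Y hXY h =>
      hXY (Subtype.ext (by rw [← hHeq X, ← hHeq Y, h]))
    have hmem : ∀ X : B, (if X = U then -w else (f X : V)) ∈ fixSub ρ (H X) := by
      intro X
      rw [hHeq]
      split_ifs with hX
      · subst hX; exact Submodule.neg_mem _ h1
      · have h' := (f X).2
        split_ifs at h'
        exact h'
    have hfU : (f U : V) = 0 := by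
      have h' := (f U).2
      split_ifs at h' with hX
      · exact (Submodule.mem_bot _).1 h'
      · exact absurd rfl hX
    have := indep_fixSub ρ H (fun X => hcop _ (hHC X).1.1)
      (fun X Y a ha b hb => congrArg Subtype.val
        (hT.1.is_comm.comm (⟨a, (hHC X).1.1 ha⟩ : T) ⟨b, (hHC Y).1.1 hb⟩))
      (fun X Y hXY => hdis _ (hHC X) _ (hHC Y) (hne' X Y hXY))
      (fun X => if X = U then -w else (f X : V)) hmem (by
        rw [← Finset.add_sum_erase _ _ (Finset.mem_univ U), if_pos rfl,
          Finset.sum_congr rfl fun X hX => if_neg (Finset.ne_of_mem_erase hX)]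
        rw [← Finset.add_sum_erase _ _ (Finset.mem_univ U), hfU, zero_add] at hf
        rw [hf, neg_add_cancel]) U
    rw [if_pos rfl, neg_eq_zero] at this
    exact (Submodule.mem_bot _).2 this

theorem exists_not_fixed (hp2 : p ≠ 2) (hpq : p ≠ q) : ∀ n : ℕ,
    ∀ {V : Type u} [AddCommGroup V] [Module (ZMod q) V] [Finite V] {M : Type u} [Group M] [Finite M]
    (ρ : M →* (V ≃ₗ[ZMod q] V)), Nat.card V ≤ n → Irr ρ → ∀ P : Subgroup M, P.Normal →
    IsPGroup p (P.map ρ) → ∀ A : Subgroup M, A ≤ P → (∃ a ∈ A, ρ a ≠ 1) →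
      ∃ v : V, ∀ g : M, ∃ a ∈ A, ρ (g * a * g⁻¹) v ≠ v := by
  intro n
  induction n using Nat.strong_induction_on with
  | _ n ih =>
    classical
    intro V _ _ _ M _ _ ρ0 hn hirr0 P0 hP0n hP0 A0 hA0 hne0
    -- pass to the image
    set Q := ρ0.range with hQ
    set ρ := Q.subtype with hρdef
    set f := ρ0.rangeRestrict with hf
    have hfs : Function.Surjective f := ρ0.rangeRestrict_surjective
    haveI : Finite Q := Finite.of_surjective f hfs
    have hfρ : ∀ g, ρ (f g) = ρ0 g := fun g => rfl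
    have hρ : Function.Injective ρ := Q.subtype_injective
    have hirr : Irr ρ := fun W hW => hirr0 W fun g w hw => hW (f g) w hw
    set P := P0.map f with hPdef
    set A := A0.map f with hAdef
    haveI hPn : P.Normal := hP0n.map f hfs
    have hP : IsPGroup p P := by
      refine hP0.of_injective
        ((Q.subtype.comp P.subtype).codRestrict (P0.map ρ0) fun x => ?_) ?_
      · obtain ⟨y, hy, hyx⟩ := x.2
        exact ⟨y, hy, congrArg Q.subtype hyx⟩
      · intro x y h
        exact Subtype.ext (Q.subtype_injective (congrArg (fun w : P0.map ρ0 => (w : V ≃ₗ[ZMod q] V)) h))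
    have hAP : A ≤ P := Subgroup.map_mono hA0
    have hAne : ∃ a ∈ A, ρ a ≠ 1 := by
      obtain ⟨a, ha, ha1⟩ := hne0
      exact ⟨f a, ⟨a, ha, rfl⟩, ha1⟩
    suffices h : ∃ v : V, ∀ g : Q, ∃ a ∈ A, ρ (g * a * g⁻¹) v ≠ v by
      obtain ⟨v, hv⟩ := h
      refine ⟨v, fun g => ?_⟩
      obtain ⟨_, ⟨a, ha, rfl⟩, hne⟩ := hv (f g)
      refine ⟨a, ha, ?_⟩
      rw [← hfρ, map_mul f, map_mul f, map_inv f]
      exact hne
    haveI : Nontrivial V := by
      by_contra hc
      rw [not_nontrivial_iff_subsingleton] at hc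
      obtain ⟨a, -, ha⟩ := hAne
      exact ha (LinearEquiv.ext fun v => Subsingleton.elim _ _)
    by_cases hsys : ∃ B, Sys ρ B
    · -- imprimitive
      obtain ⟨B, S, hBmin⟩ := (by
        have hex : ∃ k, ∃ B, Sys ρ B ∧ B.card = k := ⟨_, _, hsys.choose_spec, rfl⟩
        obtain ⟨B, hB, hBc⟩ := Nat.find_spec hex
        exact ⟨B, hB, fun C hC => hBc ▸ Nat.find_min' hex ⟨C, hC, rfl⟩⟩ :
          ∃ B, Sys ρ B ∧ ∀ C, Sys ρ C → B.card ≤ C.card)
      letI := S.action
      haveI hprim := S.coarsen hirr hBmin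
      have hsmul : ∀ (g : Q) (U : B), ((g • U : B) : Submodule (ZMod q) V) =
          (U : Submodule (ZMod q) V).map (ρ g).toLinearMap := fun g U => rfl
      obtain ⟨U1, hU1⟩ : ∃ U, U ∈ B := Finset.card_pos.1 (by have := S.two; omega)
      by_cases hmove : ∃ a ∈ A, ∃ U : B, a • U ≠ U
      · -- some element moves every member
        obtain ⟨a, ha, U0, hU0⟩ := hmove
        let φ := MulAction.toPermHom Q B
        let K : Subgroup Q :=
          { carrier := {k | k ∈ P ∧ ∀ h ∈ P, φ k * φ h = φ h * φ k}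
            one_mem' := ⟨P.one_mem, fun h _ => by simp⟩
            mul_mem' := fun {x y} hx hy => ⟨P.mul_mem hx.1 hy.1, fun h hh => by
              rw [map_mul, mul_assoc, hy.2 h hh, ← mul_assoc, hx.2 h hh, mul_assoc]⟩
            inv_mem' := fun {x} hx => ⟨P.inv_mem hx.1, fun h hh => by
              rw [map_inv]
              exact ((show Commute (φ x) (φ h) from hx.2 h hh).inv_left).eq⟩ }
        haveI : K.Normal := ⟨fun k hk g => ⟨hPn.conj_mem k hk.1 g, fun h hh => by
          have := congrArg (fun w => φ g * w * (φ g)⁻¹)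
            (hk.2 (g⁻¹ * h * g) (by simpa using hPn.conj_mem h hh g⁻¹))
          simp only [map_mul, map_inv] at this ⊢
          calc φ g * φ k * (φ g)⁻¹ * φ h = φ g * (φ k * ((φ g)⁻¹ * φ h * φ g)) * (φ g)⁻¹ := by group
            _ = _ := by rw [this]; group⟩⟩
        have hfix : MulAction.fixedPoints K B ≠ Set.univ := by
          intro hall
          haveI : Group.IsNilpotent (P.map φ) := (hP.map φ).isNilpotent
          haveI : Nontrivial (P.map φ) := by
            refine (Subgroup.nontrivial_iff_ne_bot _).2 fun h => hU0 ?_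
            have h1 : φ a ∈ P.map φ := ⟨a, hAP ha, rfl⟩
            rw [h, mem_bot] at h1
            exact congrArg (fun e : Equiv.Perm B => e U0) h1
          haveI := (hP.map φ).center_nontrivial
          obtain ⟨c, hc⟩ := exists_ne (1 : Subgroup.center (P.map φ))
          obtain ⟨k, hk, hkc⟩ := (c : P.map φ).2
          apply hc
          refine Subtype.ext (Subtype.ext ?_)
          rw [← hkc]
          refine Equiv.ext fun U => ?_
          have hkK : k ∈ K := ⟨hk, fun h hh => by
            have := congrArg Subtype.val (Subgroup.mem_center_iff.1 c.2 ⟨φ h, h, hh, rfl⟩)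
            simpa [← hkc] using this.symm⟩
          have hU : U ∈ MulAction.fixedPoints K B := hall ▸ Set.mem_univ U
          exact hU ⟨k, hkK⟩
        haveI : MulAction.IsPretransitive K B :=
          MulAction.IsQuasiPreprimitive.isPretransitive_of_normal hfix
        have hnofix : ∀ U : B, a • U ≠ U := by
          intro U hU
          obtain ⟨⟨k, hk⟩, hkU⟩ := MulAction.exists_smul_eq K U U0
          have hkU' : k • U = U0 := hkU
          refine hU0 ?_
          rw [← hkU']
          have := congrArg (fun e : Equiv.Perm B => e U) (hk.2 a (hAP ha))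
          simp only [Equiv.Perm.mul_apply] at this
          change k • a • U = a • k • U at this
          rw [← this, hU]
        obtain ⟨w, hw, hw0⟩ := U1.exists_mem_ne_zero_of_ne_bot (S.ne U1 hU1)
        refine ⟨w, fun g => ⟨a, ha, fun h => ?_⟩⟩
        have h1 : (g * a * g⁻¹) • (⟨U1, hU1⟩ : B) = ⟨U1, hU1⟩ := by
          refine Subtype.ext (S.eq_of_mem ((g * a * g⁻¹) • (⟨U1, hU1⟩ : B)).2 hU1 hw0 ?_ hw)
          rw [hsmul]
          exact ⟨w, hw, h⟩
        rw [mul_smul, mul_smul, smul_eq_iff_eq_inv_smul] at h1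
        exact hnofix _ h1
      · -- all elements fix every member
        push Not at hmove
        obtain ⟨a0, ha0, ha01⟩ := hAne
        obtain ⟨U0, u0, hu0, hu0'⟩ : ∃ (U0 : B), ∃ u ∈ (U0 : Submodule (ZMod q) V), ρ a0 u ≠ u := by
          by_contra hc
          push Not at hc
          refine ha01 (LinearEquiv.ext fun v => ?_)
          have hle : (⨆ U : B, (U : Submodule (ZMod q) V)) ≤ fix ρ a0 :=
            iSup_le fun U u hu => hc U u hu
          exact hle (S.top.ge Submodule.mem_top)
        -- transport to one member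
        choose t ht using fun U : B => S.trans hirr U0.2 U.2
        let P' : Subgroup Q := P ⊓ (MulAction.toPermHom Q B).ker
        have hAP' : A ≤ P' := fun x hx => ⟨hAP hx, MonoidHom.mem_ker.2 (Equiv.ext fun U => hmove x hx U)⟩
        let G1 : Subgroup Q := MulAction.stabilizer Q U0
        have hG1 : ∀ g : G1, ∀ u ∈ (U0 : Submodule (ZMod q) V), ρ g u ∈ (U0 : Submodule (ZMod q) V) := by
          intro g u hu
          have hs : (U0 : Submodule (ZMod q) V).map (ρ g).toLinearMap = U0 :=
            congrArg Subtype.val (MulAction.mem_stabilizer_iff.1 g.2)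
          exact hs.le ⟨u, hu, rfl⟩
        let ρ1 : G1 →* ((U0 : Submodule (ZMod q) V) ≃ₗ[ZMod q] (U0 : Submodule (ZMod q) V)) :=
          MonoidHom.mk'
            (fun g => LinearEquiv.ofLinear
              ((ρ g).toLinearMap.restrict (hG1 g)) ((ρ (g⁻¹ : G1)).toLinearMap.restrict (hG1 g⁻¹))
              (by
                ext u
                show ρ g (ρ (g⁻¹ : G1) u) = u
                rw [← rho_mul, show (g : Q) * (g⁻¹ : G1) = 1 by simp, rho_one])
              (by
                ext u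
                show ρ (g⁻¹ : G1) (ρ g u) = u
                rw [← rho_mul, show ((g⁻¹ : G1) : Q) * g = 1 by simp, rho_one]))
            (fun g h => by ext u; exact rho_mul ρ g h u)
        have hirr1 : Irr ρ1 := by
          intro W hW
          have hst : ∀ g, (U0 : Submodule (ZMod q) V).map (ρ g).toLinearMap = U0 →
              ∀ w ∈ W.map (Submodule.subtype _), ρ g w ∈ W.map (Submodule.subtype _) := by
            intro g hg w hw
            obtain ⟨w', hw', rfl⟩ := hw
            exact ⟨ρ1 ⟨g, MulAction.mem_stabilizer_iff.2 (Subtype.ext hg)⟩ w', hW _ w' hw', rfl⟩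
          rcases S.irr_stab hirr U0.2 (W.map (Submodule.subtype _)) (Submodule.map_subtype_le _ W) hst with h | h
          · left
            exact Submodule.map_injective_of_injective (Submodule.subtype_injective _)
              (h.trans (Submodule.map_bot _).symm)
          · right
            exact Submodule.map_injective_of_injective (Submodule.subtype_injective _)
              (h.trans (Submodule.map_subtype_top _).symm)
        have hlt : Nat.card (U0 : Submodule (ZMod q) V) < n := (S.card_lt U0.2).trans_le hn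
        have hP'1 : IsPGroup p ((P'.subgroupOf G1).map ρ1) :=
          ((hP.to_le inf_le_left).comap_of_injective G1.subtype G1.subtype_injective).map ρ1
        haveI : (P'.subgroupOf G1).Normal := inferInstance
        -- the restricted subgroup
        have hAG : A ≤ G1 := fun x hx => MulAction.mem_stabilizer_iff.2 (hmove x hx U0)
        obtain ⟨v0, hv0⟩ := ih _ hlt ρ1 le_rfl hirr1 (P'.subgroupOf G1) inferInstance hP'1
          (A.subgroupOf G1) (fun x hx => hAP' hx) ⟨⟨a0, hAG ha0⟩, ha0, fun h => hu0' (by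
            exact congrArg Subtype.val (LinearEquiv.congr_fun h ⟨u0, hu0⟩))⟩
        haveI := Fintype.ofFinite B
        refine ⟨∑ U : B, ρ (t U) v0, fun g => ?_⟩
        by_contra hc
        push Not at hc
        set j := g • U0 with hj
        -- the element t(j)⁻¹ g lies in the stabiliser
        have hmem : (t j)⁻¹ * g ∈ G1 := by
          rw [MulAction.mem_stabilizer_iff, mul_smul, inv_smul_eq_iff]
          exact Subtype.ext (ht j).symm
        obtain ⟨a1, ha1, hne1⟩ := hv0 ⟨_, hmem⟩
        have ha1' : (a1 : Q) ∈ A := ha1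
        refine hne1 (Subtype.ext ?_)
        set b := g * (a1 : Q) * g⁻¹ with hb
        have hbfix : ∀ U : B, b • U = U := fun U => by
          rw [hb, mul_smul, mul_smul, hmove _ ha1', smul_inv_smul]
        have hcomp : ρ b (ρ (t j) v0) = ρ (t j) v0 := by
          have hz := eq_zero_of_sum S.indep (fun U : B => ρ b (ρ (t U) v0) - ρ (t U) v0) (fun U => by
            have hin : ρ (t U) (v0 : V) ∈ (U : Submodule (ZMod q) V) := (ht U).le ⟨_, v0.2, rfl⟩
            have hin' : ρ b (ρ (t U) v0) ∈ (U : Submodule (ZMod q) V) :=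
              (congrArg Subtype.val (hbfix U)).le ⟨_, hin, rfl⟩
            exact Submodule.sub_mem _ hin' hin) (by
              rw [Finset.sum_sub_distrib, ← map_sum, hb, hc _ ha1', sub_self]) j
          exact sub_eq_zero.1 hz
        show ρ ((t j)⁻¹ * g * (a1 : Q) * ((t j)⁻¹ * g)⁻¹) v0 = v0
        rw [show (t j)⁻¹ * g * (a1 : Q) * ((t j)⁻¹ * g)⁻¹ = (t j)⁻¹ * (b * t j) by rw [hb]; group,
          rho_mul, rho_mul, hcomp, rho_inv_apply]
    · -- primitive
      push Not at hsys
      obtain ⟨a0, ha0, ha01⟩ := hAne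
      have hA0ne : a0 ≠ 1 := fun h => ha01 (by rw [h, map_one])
      obtain ⟨k, hk⟩ := IsPGroup.iff_orderOf.1 hP ⟨a0, hAP ha0⟩
      rw [Subgroup.orderOf_mk] at hk
      obtain ⟨k, rfl⟩ : ∃ k', k = k' + 1 := Nat.exists_eq_succ_of_ne_zero (fun h => hA0ne
        (orderOf_eq_one_iff.1 (by rw [hk, h, pow_zero])))
      set a := a0 ^ p ^ k with ha
      have hao : orderOf a = p := by
        rw [ha, orderOf_pow_of_dvd (pow_ne_zero _ hp.out.ne_zero) (hk ▸ pow_dvd_pow p k.le_succ), hk,
          pow_succ, Nat.mul_div_cancel_left _ (Nat.pow_pos hp.out.pos)]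
      have haA : a ∈ A := A.pow_mem ha0 _
      have hfreeT : ∀ T : Subgroup Q, T.Normal → Cfsg.IsElementaryAbelian p T →
          ∀ t ∈ T, t ≠ 1 → ∀ v, ρ t v = v → v = 0 := fun T hT hTe =>
        @free_of_no_sys q _ V _ _ _ Q _ _ ρ p _ hρ hirr hsys _ hpq T hT hTe
      have hP1 : P ≠ ⊥ := fun h => hA0ne (mem_bot.1 (h ▸ hAP ha0))
      obtain ⟨z, E, S⟩ := exists_symData hp2 P hP hP1 (fun T hT _ hTe t ht ht1 y hy => by
        let σ := ρ.comp T.subtype
        have hs : Semiregular σ := fun v hv g hg => by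
          by_contra hg1
          exact hv (hfreeT T hT hTe g g.2 (fun h => hg1 (Subtype.ext h)) v hg)
        have h := mem_zpowers_of_semiregular (p := p) σ hpq hs
          (z := (⟨t, ht⟩ : T)) (y := ⟨y, hy⟩) (Subtype.ext (hTe.2 t ht)) (Subtype.ext (hTe.2 y hy))
          (hTe.1.is_comm.comm _ _) (fun h => ht1 (congrArg Subtype.val h))
        obtain ⟨i, hi⟩ := mem_zpowers_iff.1 h
        exact mem_zpowers_iff.2 ⟨i, congrArg Subtype.val hi⟩)
      have hz1 : z ≠ 1 := fun h => hp.out.ne_one (by rw [← S.ord, h, orderOf_one])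
      have hzT : Cfsg.IsElementaryAbelian p (zpowers z) := by
        refine ⟨⟨⟨fun x y => IsCyclic.commGroup.mul_comm x y⟩⟩, fun x hx => ?_⟩
        obtain ⟨i, rfl⟩ := mem_zpowers_iff.1 hx
        rw [← zpow_natCast, ← zpow_mul, mul_comm, zpow_mul, zpow_natCast, ← S.ord, pow_orderOf_eq_one,
          one_zpow]
      obtain ⟨v, hv⟩ := exists_not_fixed_of_symData ρ hp2 hpq P hP S
        (hfreeT _ S.zn hzT z (mem_zpowers z) hz1) (hAP haA) (by rw [← hao, pow_orderOf_eq_one])
        (fun h => hp.out.ne_one (by rw [← hao, h, orderOf_one]))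
      exact ⟨v, fun g => ⟨a, haA, hv g⟩⟩

end Cfsg.Lib.ClassSub
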