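import Mathlib.Algebra.Module.ZMod
import Mathlib.GroupTheory.IsSubnormal
import Cfsg.Agent.Lib.Core.Cores
import Cfsg.Agent.Lib.Group.MinimalNormalFactor
import Cfsg.Agent.Lib.Char.RealOddDegree
import Cfsg.Agent.Lib.Local.ClassSubnormal.Main

/-!
A `p`-subgroup, `p` odd, of a solvable group that is subnormal in the join with a conjugate by some
representative of every class lies in `O_p`.
-/

set_option autoImplicit false
set_option linter.style.haveILetI false

namespace Cfsg.Lib.ClassSub

open Subgroup Cfsg.Lib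

universe u

variable {p : ℕ} [hp : Fact p.Prime]

/-- Every class has a representative in whose join the subgroup is subnormal. -/
def ClassSubnormal {G : Type*} [Group G] (A : Subgroup G) : Prop :=
  ∀ c : G, ∃ g : G, IsConj c g ∧
    (A.subgroupOf (A ⊔ A.map (MulAut.conj g).toMonoidHom)).IsSubnormal

theorem ClassSubnormal.map {G H : Type*} [Group G] [Group H] {A : Subgroup G} (h : ClassSubnormal A)
    (f : G →* H) (hf : Function.Surjective f) : ClassSubnormal (A.map f) := by
  intro c
  obtain ⟨c, rfl⟩ := hf c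
  obtain ⟨g, hg, hs⟩ := h c
  refine ⟨f g, f.map_isConj hg, ?_⟩
  set J := A ⊔ A.map (MulAut.conj g).toMonoidHom with hJ
  have hJ' : J.map f = A.map f ⊔ (A.map f).map (MulAut.conj (f g)).toMonoidHom := by
    rw [hJ, Subgroup.map_sup, Subgroup.map_map, Subgroup.map_map]
    congr 2
    ext x
    simp
  rw [← hJ']
  let r : J →* (J.map f : Subgroup H) := (f.comp J.subtype).codRestrict _ fun x => ⟨x, x.2, rfl⟩
  have hr : Function.Surjective r := by
    rintro ⟨_, x, hx, rfl⟩
    exact ⟨⟨x, hx⟩, rfl⟩
  convert hs.map hr using 1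
  ext y
  constructor
  · rintro ⟨x, hx, hxy⟩
    exact ⟨⟨x, (le_sup_left : A ≤ J) hx⟩, hx, Subtype.ext hxy⟩
  · rintro ⟨x, hx, rfl⟩
    exact ⟨x, hx, rfl⟩

theorem le_pCore_of_classSubnormal (hp2 : p ≠ 2) : ∀ n : ℕ, ∀ {G : Type u} [Group G] [Finite G],
    Nat.card G ≤ n → Group.IsSolvable G → ∀ A : Subgroup G, IsPGroup p A → ClassSubnormal A →
      A ≤ Cfsg.pCore p G := by
  intro n
  induction n using Nat.strong_induction_on with
  | _ n ih =>
    intro G _ _ hn hsol A hA hcs
    rcases subsingleton_or_nontrivial G with hG | hG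
    · intro a _
      rw [Subsingleton.elim a 1]
      exact one_mem _
    have hquot : ∀ (N : Subgroup G) [N.Normal], N ≠ ⊥ →
        A.map (QuotientGroup.mk' N) ≤ Cfsg.pCore p (G ⧸ N) := by
      intro N _ hN
      have hlt : Nat.card (G ⧸ N) < n := by
        have h1 := N.card_eq_card_quotient_mul_card_subgroup
        have h2 : 1 < Nat.card N := by
          haveI := (nontrivial_iff_ne_bot N).2 hN
          exact Finite.one_lt_card
        have h3 : 0 < Nat.card (G ⧸ N) := Nat.card_pos
        nlinarith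
      exact ih _ hlt le_rfl inferInstance _ (hA.map _) (hcs.map _ (QuotientGroup.mk'_surjective N))
    by_cases hO : Cfsg.pCore p G = ⊥
    swap
    · haveI : (Cfsg.pCore p G).Normal := inferInstance
      have h := hquot _ hO
      rw [Core.pCore_quotient_pCore_eq_bot, le_bot_iff, Subgroup.map_eq_bot_iff, QuotientGroup.ker_mk'] at h
      exact h
    obtain ⟨r, M₀, hr, hM₀n, hM₀, hM₀c, hM₀r⟩ :=
      Cfsg.Lib.Char.RealOdd.exists_normal_elementary (G := G)
    haveI := Fact.mk hr
    obtain ⟨N, hNn, hNle, hN, hNmin⟩ := Cfsg.Lib.Group.MinFactor.exists_minimal_normal hM₀n hM₀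
    haveI := hNn
    have hNr : ∀ x ∈ N, x ^ r = 1 := fun x hx => hM₀r x (hNle hx)
    have hcomm : ∀ x ∈ N, ∀ y ∈ N, x * y = y * x := fun x hx y hy =>
      congrArg Subtype.val (hM₀c ⟨x, hNle hx⟩ ⟨y, hNle hy⟩)
    have hrp : p ≠ r := by
      rintro rfl
      exact hN (le_bot_iff.1 (hO ▸ Core.le_pCore (N := N) fun x => ⟨1, Subtype.ext (by
        simpa using hNr x x.2)⟩))
    letI : CommGroup N := { (inferInstance : Group N) with
      mul_comm := fun a b => Subtype.ext (hcomm a a.2 b b.2) }
    haveI hmod : Module (ZMod r) (Additive N) := AddCommGroup.zmodModule (n := r) fun x => by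
      refine Additive.toMul.injective (Subtype.ext ?_)
      simpa using hNr _ (Additive.toMul x).2
    haveI : Finite (Additive N) := inferInstanceAs (Finite N)
    let lin : G → (Additive N ≃ₗ[ZMod r] Additive N) := fun g =>
      { (MulEquiv.toAdditive (MulAut.conjNormal g : MulAut N)) with
        map_smul' := fun c w => (ZMod.map_smul
          (MulEquiv.toAdditive (MulAut.conjNormal g : MulAut N)).toAddMonoidHom c w) }
    have hlin : ∀ (g : G) (w : Additive N), lin g w =
        Additive.ofMul ((MulAut.conjNormal g : MulAut N) (Additive.toMul w)) := fun g w => rfl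
    let ρ : G →* (Additive N ≃ₗ[ZMod r] Additive N) :=
      { toFun := lin
        map_one' := LinearEquiv.ext fun w => by
          rw [hlin, map_one]; rfl
        map_mul' := fun g h => LinearEquiv.ext fun w => by
          show lin (g * h) w = lin g (lin h w)
          rw [hlin, hlin, hlin, map_mul]; rfl }
    have hρ : ∀ g (x : N), ((Additive.toMul (ρ g (Additive.ofMul x)) : N) : G) = g * x * g⁻¹ :=
      fun g x => MulAut.conjNormal_apply g x
    have hirr : Irr ρ := by
      intro W hW
      let W' : Subgroup G :=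
        { carrier := {x | ∃ h : x ∈ N, Additive.ofMul (⟨x, h⟩ : N) ∈ W}
          one_mem' := ⟨N.one_mem, W.zero_mem⟩
          mul_mem' := fun ⟨h1, w1⟩ ⟨h2, w2⟩ => ⟨N.mul_mem h1 h2, W.add_mem w1 w2⟩
          inv_mem' := fun ⟨h1, w1⟩ => ⟨N.inv_mem h1, W.neg_mem w1⟩ }
      by_cases hW' : W' = ⊥
      · left
        rw [Submodule.eq_bot_iff]
        intro x hx
        have : ((Additive.toMul x : N) : G) ∈ W' := ⟨(Additive.toMul x).2, hx⟩
        rw [hW', mem_bot] at this
        exact Additive.toMul.injective (Subtype.ext this)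
      · right
        have hW'n : W'.Normal := ⟨fun x ⟨hx, hw⟩ g => ⟨hNn.conj_mem x hx g, by
          convert hW g _ hw using 1
          exact Additive.toMul.injective (Subtype.ext (hρ g ⟨x, hx⟩).symm)⟩⟩
        have h := hNmin W' hW'n (fun x ⟨hx, _⟩ => hx) hW'
        rw [Submodule.eq_top_iff']
        intro x
        obtain ⟨_, hx⟩ := h.ge (Additive.toMul x).2
        exact hx
    set π := QuotientGroup.mk' N with hπ
    set K := (Cfsg.pCore p (G ⧸ N)).comap π with hK
    haveI hKn : K.Normal := inferInstance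
    have hAK : A ≤ K := Subgroup.map_le_iff_le_comap.1 (hquot N hN)
    have hker : ∀ x ∈ N, ρ x = 1 := fun x hx => LinearEquiv.ext fun y => by
      refine Additive.toMul.injective (Subtype.ext ?_)
      have := hρ x (Additive.toMul y)
      rw [ofMul_toMul] at this
      rw [this, hcomm x hx _ (Additive.toMul y).2, mul_inv_cancel_right]
      rfl
    have hKρ : IsPGroup p (K.map ρ) := by
      rintro ⟨_, x, hx, rfl⟩
      obtain ⟨k, hk⟩ := Core.pCore_isPGroup p (G ⧸ N) ⟨π x, hx⟩
      refine ⟨k, Subtype.ext ?_⟩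
      have h1 : π (x ^ p ^ k) = 1 := by rw [map_pow]; exact congrArg Subtype.val hk
      rw [SubgroupClass.coe_pow, OneMemClass.coe_one]
      rw [← map_pow, hker _ ((QuotientGroup.eq_one_iff _).1 h1)]
    by_cases hAρ : ∃ a ∈ A, ρ a ≠ 1
    · obtain ⟨v, hv⟩ := exists_not_fixed hp2 hrp _ ρ le_rfl hirr K hKn hKρ A hAK hAρ
      exfalso
      obtain ⟨g, hconj, hs⟩ := hcs ((Additive.toMul v : N) : G)
      obtain ⟨h, hh⟩ := isConj_iff.1 hconj
      have hgN : g ∈ N := hh ▸ hNn.conj_mem _ (Additive.toMul v).2 h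
      obtain ⟨a, ha, hne⟩ := hv h⁻¹
      set J := A ⊔ A.map (MulAut.conj g).toMonoidHom with hJ
      have hJp : IsPGroup p J := by
        have h1 : A.subgroupOf J ≤ Cfsg.pCore p J :=
          Core.le_pCore_of_isSubnormal hs (hA.comap_of_injective J.subtype J.subtype_injective)
        have h2 : (A.map (MulAut.conj g).toMonoidHom).subgroupOf J ⊔ Cfsg.pCore p J = ⊤ := by
          refine eq_top_iff.2 (le_trans (le_of_eq ?_) (sup_le (h1.trans le_sup_right) le_sup_left))
          rw [← subgroupOf_sup le_sup_left le_sup_right, subgroupOf_self]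
        have h3 := Core.isPGroup_sup_of_normal
          (((hA.map (MulAut.conj g).toMonoidHom).comap_of_injective J.subtype J.subtype_injective :
            IsPGroup p ((A.map (MulAut.conj g).toMonoidHom).subgroupOf J)))
          (Core.pCore_isPGroup p J)
        replace h3 : IsPGroup p ((A.map (MulAut.conj g).toMonoidHom).subgroupOf J ⊔ Cfsg.pCore p J : Subgroup J) := h3
        rw [h2] at h3
        exact h3.of_equiv Subgroup.topEquiv
      have hcJ : g * a * g⁻¹ * a⁻¹ ∈ J :=
        J.mul_mem (mem_sup_right ⟨a, ha, rfl⟩) (J.inv_mem (mem_sup_left ha))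
      have hcN : g * a * g⁻¹ * a⁻¹ ∈ N := by
        rw [show g * a * g⁻¹ * a⁻¹ = g * (a * g⁻¹ * a⁻¹) by group]
        exact N.mul_mem hgN (hNn.conj_mem _ (N.inv_mem hgN) a)
      obtain ⟨k, hk⟩ := hJp ⟨_, hcJ⟩
      have hc1 : g * a * g⁻¹ * a⁻¹ = 1 := by
        rw [← orderOf_eq_one_iff]
        refine Nat.eq_one_of_dvd_coprimes (((Nat.coprime_primes hp.out hr).2 hrp).pow_left k)
          (orderOf_dvd_of_pow_eq_one (congrArg Subtype.val hk)) (orderOf_dvd_of_pow_eq_one (hNr _ hcN))
      apply hne
      refine Additive.toMul.injective (Subtype.ext ?_)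
      have h4 := hρ (h⁻¹ * a * h⁻¹⁻¹) (Additive.toMul v)
      rw [ofMul_toMul] at h4
      rw [h4]
      rw [mul_inv_eq_one, mul_inv_eq_iff_eq_mul] at hc1
      have hx : ((Additive.toMul v : N) : G) = h⁻¹ * g * h := by rw [← hh]; group
      rw [hx, inv_inv]
      calc h⁻¹ * a * h * (h⁻¹ * g * h) * (h⁻¹ * a * h)⁻¹ = h⁻¹ * (a * g) * a⁻¹ * h := by group
        _ = h⁻¹ * (g * a) * a⁻¹ * h := by rw [hc1]
        _ = h⁻¹ * g * h := by group
    · push Not at hAρ
      set D := K ⊓ ρ.ker with hD
      haveI : D.Normal := inferInstance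
      let f : D →* Cfsg.pCore p (G ⧸ N) := (π.comp D.subtype).codRestrict _ fun x => x.2.1
      haveI : Group.IsNilpotent (Cfsg.pCore p (G ⧸ N)) := (Core.pCore_isPGroup p (G ⧸ N)).isNilpotent
      haveI : Group.IsNilpotent D := by
        refine Subgroup.isNilpotent_of_ker_le_center f (fun x hx => Subgroup.mem_center_iff.2 fun y => ?_)
        have hxN : (x : G) ∈ N := (QuotientGroup.eq_one_iff _).1 (congrArg Subtype.val (MonoidHom.mem_ker.1 hx))
        have hy : ρ (y : G) = 1 := y.2.2
        have h5 := hρ (y : G) ⟨x, hxN⟩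
        rw [hy] at h5
        refine Subtype.ext ?_
        show (y : G) * x = x * y
        exact (eq_mul_inv_iff_mul_eq.1 h5).symm
      obtain ⟨P, hP⟩ := (hA.comap_of_injective D.subtype D.subtype_injective :
        IsPGroup p (A.subgroupOf D)).exists_le_sylow
      haveI hPn : (P : Subgroup D).Normal := inferInstance
      haveI := P.characteristic_of_normal hPn
      have hle : (P : Subgroup D).map D.subtype ≤ Cfsg.pCore p G := Core.le_pCore (P.2.map D.subtype)
      intro a ha
      exact hle ⟨⟨a, hAK ha, hAρ a ha⟩, hP ha, rfl⟩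

end Cfsg.Lib.ClassSub
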